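import Cfsg.Agent.AltSection.Eigenchar

/-!
Linear algebra of operators of prime order.
-/

set_option autoImplicit false

namespace CfsgLib.AltE6

open Module

variable {K V : Type*} [Field K] [AddCommGroup V] [Module K V]

/-- The rank of a product minus one. -/
theorem rank_mul_le [FiniteDimensional K V] (A B : Module.End K V) :
    finrank K (LinearMap.range (A * B - 1)) ≤
      finrank K (LinearMap.range (A - 1)) + finrank K (LinearMap.range (B - 1)) := by
  have h : A * B - 1 = A * (B - 1) + (A - 1) := by noncomm_ring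
  rw [h]
  refine le_trans (Submodule.finrank_mono (LinearMap.range_add_le _ _))
    (le_trans (Submodule.finrank_add_le_finrank_add_finrank _ _) ?_)
  rw [Module.End.mul_eq_comp, LinearMap.range_comp]
  have := Submodule.finrank_map_le A (LinearMap.range (B - 1))
  omega

/-- A cube root of unity splits the moved space into two eigenspaces of equal dimension. -/
theorem two_halves [FiniteDimensional K V] {ζ : K} (hζ : IsPrimitiveRoot ζ 3)
    {T S S' : Module.End K V} (hT : T * T * T = 1) (hinv : S' * S = 1) (hS : S * T = T * T * S) :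
    finrank K (LinearMap.range (T - 1)) = 2 * finrank K (LinearMap.ker (T - ζ • 1)) := by
  have h3 : ζ * ζ * ζ = 1 := by rw [← pow_two, ← pow_succ]; exact hζ.pow_eq_one
  have h1 : ζ ≠ 1 := hζ.ne_one (by norm_num)
  have hz0 : ζ ≠ 0 := fun h => by simp [h] at h3
  have hd : ζ - ζ * ζ ≠ 0 := by
    rw [show ζ - ζ * ζ = ζ * (1 - ζ) by ring]
    exact mul_ne_zero hz0 (sub_ne_zero.2 (Ne.symm h1))
  have hsum : ζ * ζ + ζ + 1 = 0 := by
    have h : (ζ - 1) * (ζ * ζ + ζ + 1) = 0 := by linear_combination h3
    exact (mul_eq_zero.1 h).resolve_left (sub_ne_zero.2 h1)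
  have hinj : Function.Injective S := fun x y e => by
    have := congrArg S' e
    rwa [← Module.End.mul_apply, ← Module.End.mul_apply, hinv] at this
  set E1 := LinearMap.ker (T - ζ • (1 : Module.End K V))
  set E2 := LinearMap.ker (T - (ζ * ζ) • (1 : Module.End K V))
  have m1 : ∀ v, v ∈ E1 ↔ T v = ζ • v := fun v => by simp [E1, sub_eq_zero]
  have m2 : ∀ v, v ∈ E2 ↔ T v = (ζ * ζ) • v := fun v => by simp [E2, sub_eq_zero]
  have hTT : ∀ v, T (T (T v)) = v := fun v => LinearMap.congr_fun hT v
  have hST : ∀ v, S (T v) = T (T (S v)) := fun v => LinearMap.congr_fun hS v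
  have hmaps : ∀ (a b : K), b * b * b = 1 → b * b = a → ∀ v, T v = a • v → T (S v) = b • S v := by
    intro a b hb hab v hv
    have h := congrArg T (hST v)
    rw [hTT, hv, map_smul, map_smul] at h
    have hb0 : a * b = 1 := by rw [← hab]; exact hb
    have e : b • S v = b • (a • T (S v)) := congrArg (b • ·) h.symm
    rw [e, smul_smul, mul_comm, hb0, one_smul]
  have h12 : finrank K E1 ≤ finrank K E2 :=
    LinearMap.finrank_le_finrank_of_injective (f := S.restrict (p := E1) (q := E2) fun v hv =>
      (m2 _).2 (hmaps ζ (ζ * ζ) (by linear_combination (ζ * ζ * ζ + 1) * h3)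
        (by linear_combination ζ * h3) v ((m1 v).1 hv)))
      fun x y e => Subtype.ext (hinj (congrArg Subtype.val e))
  have h21 : finrank K E2 ≤ finrank K E1 :=
    LinearMap.finrank_le_finrank_of_injective (f := S.restrict (p := E2) (q := E1) fun v hv =>
      (m1 _).2 (hmaps (ζ * ζ) ζ h3 rfl v ((m2 v).1 hv)))
      fun x y e => Subtype.ext (hinj (congrArg Subtype.val e))
  have hrange : LinearMap.range (T - 1) = E1 ⊔ E2 := by
    refine le_antisymm ?_ (sup_le ?_ ?_)
    · rintro _ ⟨u, rfl⟩
      set v := (T - 1) u with hv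
      have hq : T (T v) + T v + v = 0 := by
        simp only [hv, LinearMap.sub_apply, Module.End.one_apply, map_sub, hTT]; abel
      have e1 : (ζ - ζ * ζ) • v = (T v - (ζ * ζ) • v) - (T v - ζ • v) := by
        rw [sub_smul]; abel
      have hv1 : T v - (ζ * ζ) • v ∈ E1 := by
        rw [m1, map_sub, map_smul, smul_sub, smul_smul,
          show ζ * (ζ * ζ) = 1 by linear_combination h3, one_smul]
        have e : T (T v) = -(T v) - v := by rw [← sub_eq_zero, ← hq]; abel
        rw [e]
        have : -(T v) - v - (ζ * ζ) • T v - (ζ • T v - v) = -((ζ * ζ + ζ + 1) • T v) := by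
          rw [add_smul, add_smul, one_smul]; abel
        rw [← sub_eq_zero, this, hsum, zero_smul, neg_zero]
      have hv2 : T v - ζ • v ∈ E2 := by
        rw [m2, map_sub, map_smul, smul_sub, smul_smul,
          show ζ * ζ * ζ = 1 from h3, one_smul]
        have e : T (T v) = -(T v) - v := by rw [← sub_eq_zero, ← hq]; abel
        rw [e]
        have : -(T v) - v - ζ • T v - ((ζ * ζ) • T v - v) = -((ζ * ζ + ζ + 1) • T v) := by
          rw [add_smul, add_smul, one_smul]; abel
        rw [← sub_eq_zero, this, hsum, zero_smul, neg_zero]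
      have h := (Submodule.sub_mem_sup hv1 hv2)
      rw [← e1] at h
      exact (Submodule.smul_mem_iff _ hd).1 h
    · intro v hv
      refine ⟨(ζ - 1)⁻¹ • v, ?_⟩
      rw [map_smul, LinearMap.sub_apply, Module.End.one_apply, (m1 v).1 hv]
      nth_rw 2 [← one_smul K v]
      rw [← sub_smul, smul_smul, inv_mul_cancel₀ (sub_ne_zero.2 h1), one_smul]
    · intro v hv
      have h2 : ζ * ζ ≠ 1 := fun h => h1 (by linear_combination -ζ * h + h3)
      refine ⟨(ζ * ζ - 1)⁻¹ • v, ?_⟩
      rw [map_smul, LinearMap.sub_apply, Module.End.one_apply, (m2 v).1 hv]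
      nth_rw 2 [← one_smul K v]
      rw [← sub_smul, smul_smul, inv_mul_cancel₀ (sub_ne_zero.2 h2), one_smul]
  have hinf : E1 ⊓ E2 = ⊥ := by
    rw [Submodule.eq_bot_iff]
    rintro v ⟨hv1, hv2⟩
    have h : (ζ - ζ * ζ) • v = 0 := by rw [sub_smul, ← (m1 v).1 hv1, ← (m2 v).1 hv2, sub_self]
    exact (smul_eq_zero.1 h).resolve_left hd
  have := Submodule.finrank_sup_add_finrank_inf_eq E1 E2
  rw [hinf, finrank_bot, ← hrange] at this
  omega

/-- The moved spaces of an invariant subspace and of the quotient account for everything. -/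
theorem rank_le_sub_quot [FiniteDimensional K V] {ℓ : ℕ} (hℓ : (ℓ : K) ≠ 0) {T : Module.End K V}
    (hT : T ^ ℓ = 1) {W : Submodule K V} (hW : ∀ v ∈ W, T v ∈ W) :
    finrank K (LinearMap.range (T - 1)) ≤
      finrank K (LinearMap.range (T.restrict hW - 1)) +
        finrank K (LinearMap.range (W.mapQ W T hW - 1)) := by
  set S : Module.End K V := ∑ i ∈ Finset.range ℓ, ∑ j ∈ Finset.range i, T ^ j with hS
  set A : Module.End K V := ∑ i ∈ Finset.range ℓ, T ^ i with hA
  have hTS : (T - 1) * S = A - (ℓ : K) • 1 := by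
    rw [hS, Finset.mul_sum, Finset.sum_congr rfl fun i _ => mul_geom_sum T i, Finset.sum_sub_distrib,
      Finset.sum_const, Finset.card_range, ← Nat.cast_smul_eq_nsmul K, hA]
  have hAT : A * (T - 1) = 0 := by rw [hA, geom_sum_mul, hT, sub_self]
  have hSW : ∀ v ∈ W, S v ∈ W := fun v hv => by
    rw [hS, LinearMap.sum_apply]
    refine Submodule.sum_mem _ fun i _ => ?_
    rw [LinearMap.sum_apply]
    refine Submodule.sum_mem _ fun j _ => ?_
    clear * - hv hW
    induction j with
    | zero => simpa using hv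
    | succ j ih => rw [pow_succ', Module.End.mul_apply]; exact hW _ ih
  set φ := W.mkQ.domRestrict (LinearMap.range (T - 1))
  have hn := LinearMap.finrank_range_add_finrank_ker φ
  have h1 : finrank K (LinearMap.range φ) ≤
      finrank K (LinearMap.range (W.mapQ W T hW - 1)) := by
    refine Submodule.finrank_mono ?_
    rintro _ ⟨⟨_, u, rfl⟩, rfl⟩
    exact ⟨W.mkQ u, by simp [φ]⟩
  have hk : (LinearMap.ker φ).map (LinearMap.range (T - 1)).subtype ≤
      (LinearMap.range (T.restrict hW - 1)).map W.subtype := by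
    rintro _ ⟨⟨v, u, rfl⟩, hv, rfl⟩
    have hvW : (T - 1) u ∈ W := by
      have hv' : W.mkQ ((T - 1) u) = 0 := hv
      rwa [Submodule.mkQ_apply, Submodule.Quotient.mk_eq_zero] at hv'
    set v := (T - 1) u with hvdef
    have h0 : A v = 0 := by rw [hvdef, ← Module.End.mul_apply, hAT, LinearMap.zero_apply]
    refine ⟨-((ℓ : K)⁻¹) • (T.restrict hW - 1) ⟨S v, hSW v hvW⟩, Submodule.smul_mem _ _ ⟨_, rfl⟩, ?_⟩
    have h2 := LinearMap.congr_fun hTS v
    rw [Module.End.mul_apply, LinearMap.sub_apply A, h0, LinearMap.smul_apply,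
      Module.End.one_apply, zero_sub] at h2
    rw [map_smul, LinearMap.sub_apply, Module.End.one_apply, map_sub, Submodule.subtype_apply,
      LinearMap.restrict_coe_apply, Submodule.subtype_apply]
    show -((ℓ : K)⁻¹) • (T (S v) - S v) = v
    rw [show T (S v) - S v = (T - 1) (S v) by simp, h2, neg_smul, smul_neg, neg_neg, smul_smul,
      inv_mul_cancel₀ hℓ, one_smul]
  have h2 := Submodule.finrank_mono hk
  rw [Submodule.finrank_map_subtype_eq, Submodule.finrank_map_subtype_eq] at h2
  omega

theorem inv_three_seven : (3 : ZMod 7) * 5 = 1 ∧ (∀ c : ZMod 7, 3 * c = 1 → c = 5) ∧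
    Function.Injective fun i : Fin 5 => (5 : ZMod 7) ^ (i : ℕ) := by decide

theorem inv_three_eleven : (3 : ZMod 11) * 4 = 1 ∧ (∀ c : ZMod 11, 3 * c = 1 → c = 4) ∧
    Function.Injective fun i : Fin 5 => (4 : ZMod 11) ^ (i : ℕ) := by decide

open AltSection in
/-- An operator of order `ℓ` conjugate to its cube is trivial on small invariant subspaces. -/
theorem fix_of_small [IsAlgClosed K] [FiniteDimensional K V] {ℓ : ℕ} [Fact ℓ.Prime]
    (hℓ : ℓ = 7 ∨ ℓ = 11) {ζ : K} (hζ : IsPrimitiveRoot ζ ℓ) (hℓK : (ℓ : K) ≠ 0)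
    {T S S' : Module.End K V} (hT : T ^ ℓ = 1) (hinv : S' * S = 1) (hS : S * T = T ^ 3 * S)
    (U : Submodule K V) (hTU : ∀ v ∈ U, T v ∈ U) (hSU : ∀ v ∈ U, S v ∈ U)
    (hU : finrank K U ≤ 4) : ∀ v ∈ U, T v = v := by
  intro v hv
  by_contra hne
  set W := U.map (T - 1)
  obtain ⟨w, u, huW, hu0, hev⟩ := exists_weight_mem hζ (fun _ : Fin 1 => T) (fun _ _ => rfl)
    (fun _ => hT) W
    (fun h => hne (sub_eq_zero.1 (by
      have : (T - 1) v ∈ W := ⟨v, hv, rfl⟩
      rwa [h, Submodule.mem_bot, LinearMap.sub_apply, Module.End.one_apply] at this)))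
    (fun _ x hx => by
      obtain ⟨y, hy, rfl⟩ := hx
      exact ⟨T y, hTU y hy, by simp⟩)
  have huU : u ∈ U := by
    obtain ⟨y, hy, rfl⟩ := huW
    simpa using U.sub_mem (hTU y hy) hy
  set a := w 0
  have ha : a ≠ 0 := fun h => hu0 (by
    obtain ⟨y, -, hy⟩ := huW
    exact eq_zero_of_mem_range_sub_one hℓK hT
      (by rw [hev 0, show w 0 = 0 from h]; simp) ⟨y, hy⟩)
  have hTu : T u = ζ ^ a.val • u := hev 0
  have hsinj : Function.Injective S := fun x y e => by
    have := congrArg S' e
    rwa [← Module.End.mul_apply, ← Module.End.mul_apply, hinv] at this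
  obtain ⟨c, hc⟩ : ∃ c : ZMod ℓ, 3 * c = 1 := by
    rcases hℓ with rfl | rfl
    · exact ⟨5, inv_three_seven.1⟩
    · exact ⟨4, inv_three_eleven.1⟩
  have hpow : ∀ (m : ℕ) (μ : K) (x : V), T x = μ • x → (T ^ m) x = μ ^ m • x := by
    intro m μ x hx
    induction m with
    | zero => simp
    | succ m ih => rw [pow_succ', Module.End.mul_apply, ih, map_smul, hx, smul_smul, pow_succ]
  -- the eigenvectors
  have hstep : ∀ i : ℕ, ∃ x ∈ U, x ≠ 0 ∧ T x = ζ ^ (a * c ^ i).val • x := by
    intro i
    induction i with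
    | zero => exact ⟨u, huU, hu0, by simpa using hTu⟩
    | succ i ih =>
      obtain ⟨x, hxU, hx0, hx⟩ := ih
      refine ⟨S x, hSU x hxU, fun h => hx0 (hsinj (h.trans (map_zero S).symm)), ?_⟩
      have h3 : (T ^ 3) (S x) = ζ ^ (a * c ^ i).val • S x := by
        rw [← Module.End.mul_apply, ← hS, Module.End.mul_apply, hx, map_smul]
      have hpowb : T = (T ^ 3) ^ c.val := by
        rw [← pow_mul, pow_eq_pow_mod (3 * c.val) hT]
        have : 3 * c.val % ℓ = 1 := by
          have h := congrArg ZMod.val hc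
          rw [ZMod.val_one] at h
          rw [← h, ← ZMod.val_natCast]
          congr 1
          rw [Nat.cast_mul, ZMod.natCast_zmod_val]; rfl
        rw [this, pow_one]
      have h4 : ∀ m : ℕ, ((T ^ 3) ^ m) (S x) = (ζ ^ (a * c ^ i).val) ^ m • S x := by
        intro m
        induction m with
        | zero => simp
        | succ m ih => rw [pow_succ', Module.End.mul_apply, ih, map_smul, h3, smul_smul, pow_succ]
      have := h4 c.val
      rw [← hpowb] at this
      rw [this, ← pow_mul, ← pow_val_mul hζ, pow_succ, mul_assoc]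
  choose x hxU hx0 hx using hstep
  have hinj : Function.Injective fun i : Fin 5 => a * c ^ (i : ℕ) := by
    intro i j hij
    have h' := mul_left_cancel₀ ha hij
    rcases hℓ with rfl | rfl
    · obtain rfl : c = 5 := inv_three_seven.2.1 c hc
      exact inv_three_seven.2.2 h'
    · obtain rfl : c = 4 := inv_three_eleven.2.1 c hc
      exact inv_three_eleven.2.2 h'
  have hT' : ∀ i : Fin 5, (T.restrict hTU) ⟨x i, hxU i⟩ = ζ ^ (a * c ^ (i : ℕ)).val • ⟨x i, hxU i⟩ :=
    fun i => Subtype.ext (hx i)
  have := (eigen_count (fun _ : Fin 1 => T.restrict hTU) (fun i : Fin 5 => (⟨x i, hxU i⟩ : U))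
    (fun i _ => ζ ^ (a * c ^ (i : ℕ)).val)
    (fun i j e => hinj (pow_val_inj hζ (congrFun e 0)))
    (fun i e => hx0 i (congrArg Subtype.val e)) (fun i _ => hT' i)).2
  rw [Nat.card_eq_fintype_card, Fintype.card_fin] at this
  omega

open AltSection in
/-- Simultaneous eigenspaces of distinct characters are independent. -/
theorem eigen_sum_zero {ι X : Type*} [Fintype X] (f : ι → Module.End K V) (c : X → ι → K)
    (hc : Function.Injective c) (u : X → V) (hev : ∀ x i, f i (u x) = c x i • u x)
    (h : ∑ x, u x = 0) : ∀ x, u x = 0 := by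
  classical
  have hli := linearIndependent_eigen (X := {x // u x ≠ 0}) f (fun x => u x) (fun x => c x)
    (hc.comp Subtype.val_injective) (fun x => x.2) fun x i => hev x i
  rw [Fintype.linearIndependent_iff] at hli
  intro x
  by_contra hx
  refine one_ne_zero (hli (fun _ => (1 : K)) ?_ ⟨x, hx⟩)
  simp only [one_smul]
  rw [← Finset.sum_subtype (Finset.univ.filter fun x => u x ≠ 0) (by simp) u,
    Finset.sum_filter_ne_zero, h]

/-- Simultaneous eigenspaces of dimension at least `D` fill at most the whole space. -/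
theorem card_mul_le_finrank [FiniteDimensional K V] {ι X : Type*} [Fintype X]
    (f : ι → Module.End K V) (c : X → ι → K) (hc : Function.Injective c) (W : X → Submodule K V)
    (hev : ∀ x, ∀ v ∈ W x, ∀ i, f i v = c x i • v) {D : ℕ} (hD : ∀ x, D ≤ finrank K (W x)) :
    Fintype.card X * D ≤ finrank K V := by
  classical
  have hex : ∀ x, ∃ s : Fin D → W x, LinearIndependent K s := fun x =>
    exists_linearIndependent_of_le_finrank (hD x)
  choose s hs using hex
  have hli : LinearIndependent K fun q : X × Fin D => (s q.1 q.2 : V) := by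
    rw [Fintype.linearIndependent_iff]
    intro g hg
    rw [Fintype.sum_prod_type] at hg
    have h0 := eigen_sum_zero f c hc (fun x => ∑ t, g (x, t) • (s x t : V))
      (fun x i => hev x _ (Submodule.sum_mem _ fun t _ => Submodule.smul_mem _ _ (s x t).2) i) hg
    rintro ⟨x, t⟩
    exact Fintype.linearIndependent_iff.1 (hs x) (fun t => g (x, t))
      (Subtype.ext (by simpa using h0 x)) t
  simpa using hli.fintype_card_le_finrank

end CfsgLib.AltE6
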