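import Cfsg.Agent.AltSection.Chain
import Cfsg.Agent.AltE6.Common

/-!
Orthogonal images of disjoint three-cycles of the alternating group of degree twelve: the degree is
at least ten times half the rank of a moved space.
-/

set_option autoImplicit false

namespace CfsgLib.AltE6

open Equiv Equiv.Perm Module CfsgLib.BPres CfsgLib.AltSection

variable {K V : Type*} [Field K] [AddCommGroup V] [Module K V]

theorem cyc_rot {a b i : Fin 12} (hab : a ≠ b) (hai : a ≠ i) (hbi : b ≠ i) :
    cyc a b i = cyc b i a := by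
  refine Subtype.ext (Equiv.ext fun x => ?_)
  by_cases h1 : x = a
  · subst h1
    rw [cyc_apply_a hab hai hbi, cyc_apply_i hbi hab.symm hai.symm]
  by_cases h2 : x = b
  · subst h2
    rw [cyc_apply_b hab hai, cyc_apply_a hbi hab.symm hai.symm]
  by_cases h3 : x = i
  · subst h3
    rw [cyc_apply_i hab hai hbi, cyc_apply_b hbi hab.symm]
  rw [cyc_apply_of_ne hab hai h1 h2 h3, cyc_apply_of_ne hbi hab.symm h2 h3 h1]

variable (P : alternatingGroup (Fin 12) →* Module.End K V)

/-- The elements moving the space only inside a given subspace. -/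
def movers (U : Submodule K V) : Subgroup (alternatingGroup (Fin 12)) where
  carrier := {g | LinearMap.range (P g - 1) ≤ U}
  one_mem' := by simp
  mul_mem' {g h} hg hh := by
    rintro _ ⟨u, rfl⟩
    have e : (P (g * h) - 1) u = (P g - 1) (P h u) + (P h - 1) u := by
      simp only [map_mul, LinearMap.sub_apply, Module.End.mul_apply, Module.End.one_apply]; abel
    rw [e]
    exact U.add_mem (hg ⟨_, rfl⟩) (hh ⟨_, rfl⟩)
  inv_mem' {g} hg := by
    rintro _ ⟨u, rfl⟩
    have e : (P g⁻¹ - 1) u = -(P g - 1) (P g⁻¹ u) := by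
      have h : P g (P g⁻¹ u) = u := by
        rw [← Module.End.mul_apply, ← map_mul, mul_inv_cancel, map_one, Module.End.one_apply]
      simp only [LinearMap.sub_apply, Module.End.one_apply, h]; abel
    rw [e]
    exact U.neg_mem (hg ⟨_, rfl⟩)

theorem tspace_insert_le {J : Finset (Fin 12)} (hJ : 4 ≤ J.card) {a b y : Fin 12} (hab : a ≠ b)
    (ha : a ∈ J) (hb : b ∈ J) (hy : y ∉ J) :
    tspace P (insert y J) ≤ tspace P J ⊔ LinearMap.range (P (cyc a b y) - 1) := by
  set U := tspace P J ⊔ LinearMap.range (P (cyc a b y) - 1)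
  have hyne : ∀ {c}, c ∈ J → c ≠ y := fun hc e => hy (e ▸ hc)
  have hJmem : ∀ c d e, c ≠ d → c ≠ e → d ≠ e → c ∈ J → d ∈ J → e ∈ J →
      cyc c d e ∈ movers P U := fun c d e h1 h2 h3 hc hd he =>
    (range_le_tspace P h1 h2 h3 hc hd he).trans le_sup_left
  have hex : ∀ s : Finset (Fin 12), s.card ≤ 3 → ∃ z ∈ J, z ∉ s := fun s hs => by
    by_contra h
    push Not at h
    have := Finset.card_le_card (fun z hz => h z hz : J ⊆ s)
    omega
  have key : ∀ c d, c ≠ d → c ∈ J → d ∈ J → cyc c d y ∈ movers P U := by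
    intro c d hcd hc hd
    obtain ⟨g1, hg1, g1a, g1y, g1J⟩ : ∃ g ∈ movers P U, (g : Perm (Fin 12)) a = c ∧
        (g : Perm (Fin 12)) y = y ∧ (g : Perm (Fin 12)) b ∈ J := by
      by_cases h : a = c
      · exact ⟨1, one_mem _, h, rfl, hb⟩
      obtain ⟨z, hz, hzn⟩ := hex {a, c} (Finset.card_le_two.trans (by norm_num))
      simp only [Finset.mem_insert, Finset.mem_singleton, not_or] at hzn
      have n1 : z ≠ a := hzn.1
      have n2 : z ≠ c := hzn.2
      refine ⟨cyc a c z, hJmem a c z h n1.symm n2.symm ha hc hz,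
        cyc_apply_a h n1.symm n2.symm,
        cyc_apply_of_ne h n1.symm (hyne ha).symm (hyne hc).symm (hyne hz).symm, ?_⟩
      by_cases h2 : b = c
      · rw [h2, cyc_apply_b h n1.symm]; exact hz
      by_cases h3 : b = z
      · rw [h3, cyc_apply_i h n1.symm n2.symm]; exact ha
      rw [cyc_apply_of_ne h n1.symm hab.symm h2 h3]; exact hb
    set b' := (g1 : Perm (Fin 12)) b
    have hb'c : b' ≠ c := fun e => hab ((g1 : Perm (Fin 12)).injective (g1a.trans e.symm))
    obtain ⟨g2, hg2, g2b, g2c, g2y⟩ : ∃ g ∈ movers P U, (g : Perm (Fin 12)) b' = d ∧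
        (g : Perm (Fin 12)) c = c ∧ (g : Perm (Fin 12)) y = y := by
      by_cases h : b' = d
      · exact ⟨1, one_mem _, h, rfl, rfl⟩
      obtain ⟨z, hz, hzn⟩ := hex {b', d, c} Finset.card_le_three
      simp only [Finset.mem_insert, Finset.mem_singleton, not_or] at hzn
      have n1 : z ≠ b' := hzn.1
      have n2 : z ≠ d := hzn.2.1
      have n3 : z ≠ c := hzn.2.2
      exact ⟨cyc b' d z, hJmem b' d z h n1.symm n2.symm g1J hd hz,
        cyc_apply_a h n1.symm n2.symm,
        cyc_apply_of_ne h n1.symm hb'c.symm hcd n3.symm,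
        cyc_apply_of_ne h n1.symm (hyne g1J).symm (hyne hd).symm (hyne hz).symm⟩
    have h := mul_mem (mul_mem (mul_mem hg2 hg1)
      (show cyc a b y ∈ movers P U from
        (le_sup_right : LinearMap.range (P (cyc a b y) - 1) ≤ U))) (inv_mem (mul_mem hg2 hg1))
    rw [cyc_conj _ hab (hyne ha)] at h
    rwa [Subgroup.coe_mul, Perm.mul_apply, Perm.mul_apply, Perm.mul_apply, g1a, g2c,
      g2b, g1y, g2y] at h
  refine iSup_le fun x => ?_
  obtain ⟨hx, hxJ⟩ := x.2
  have h01 := hx.ne (show (0 : Fin 3) ≠ 1 by decide)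
  have h02 := hx.ne (show (0 : Fin 3) ≠ 2 by decide)
  have h12 := hx.ne (show (1 : Fin 3) ≠ 2 by decide)
  have hm : ∀ i, x.1 i ≠ y → x.1 i ∈ J := fun i h => (Finset.mem_insert.1 (hxJ i)).resolve_left h
  show cyc (x.1 0) (x.1 1) (x.1 2) ∈ movers P U
  by_cases e0 : x.1 0 = y
  · have h := key _ _ h12 (hm 1 fun e => h01 (e0.trans e.symm)) (hm 2 fun e => h02 (e0.trans e.symm))
    rw [cyc_rot h01 h02 h12, e0]; exact h
  by_cases e1 : x.1 1 = y
  · have h := key _ _ h02.symm (hm 2 fun e => h12 (e1.trans e.symm)) (hm 0 e0)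
    rw [cyc_rot h01 h02 h12, cyc_rot h12 h01.symm h02.symm, e1]; exact h
  by_cases e2 : x.1 2 = y
  · rw [e2]; exact key _ _ h01 (hm 0 e0) (hm 1 e1)
  exact hJmem _ _ _ h01 h02 h12 (hm 0 e0) (hm 1 e1) (hm 2 e2)

/-- The standard set of a given size. -/
def seg (k : ℕ) : Finset (Fin 12) := Finset.univ.filter fun i => (i : ℕ) < k

theorem mem_seg {k : ℕ} {i : Fin 12} : i ∈ seg k ↔ (i : ℕ) < k := by simp [seg]

theorem card_seg : ∀ k ≤ 12, (seg k).card = k := by decide

theorem finrank_tspace_eq {J : Finset (Fin 12)} (hJ : J.card ≤ 10) :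
    finrank K (tspace P J) = finrank K (tspace P (seg J.card)) := by
  have hk := card_seg J.card (by omega)
  obtain ⟨g, hg⟩ := exists_even_map (α := Fin 12) (m := J.card) (by rw [Fintype.card_fin]; omega)
    (fun i => (((seg J.card).equivFinOfCardEq hk).symm i : Fin 12)) (fun i => (J.equivFin.symm i : Fin 12))
    (Subtype.val_injective.comp (Equiv.injective _)) (Subtype.val_injective.comp (Equiv.injective _))
  have he : (seg J.card).image (g : Perm (Fin 12)) = J := by
    refine Finset.eq_of_subset_of_card_le (fun x hx => ?_)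
      (by rw [Finset.card_image_of_injective _ (g : Perm (Fin 12)).injective, hk])
    obtain ⟨z, hz, rfl⟩ := Finset.mem_image.1 hx
    have h := hg ((seg J.card).equivFinOfCardEq hk ⟨z, hz⟩)
    simp only [Equiv.symm_apply_apply] at h
    rw [h]
    exact Subtype.coe_prop _
  conv_lhs => rw [← he, tspace_eq_map]
  exact ((tspace P (seg J.card)).equivMapOfInjective (P g) (P_injective_apply P g)).finrank_eq.symm

theorem finrank_range_cyc_eq {a b i : Fin 12} (hab : a ≠ b) (hai : a ≠ i) (hbi : b ≠ i) :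
    finrank K (LinearMap.range (P (cyc a b i) - 1)) =
      finrank K (LinearMap.range (P (cyc (0 : Fin 12) 1 2) - 1)) := by
  obtain ⟨g, hg⟩ := exists_even_map (α := Fin 12) (m := 3) (by rw [Fintype.card_fin]; omega)
    ![0, 1, 2] ![a, b, i] (triple_inj (by decide) (by decide) (by decide)) (triple_inj hab hai hbi)
  have g0 := hg 0; have g1 := hg 1; have g2 := hg 2
  simp only [Matrix.cons_val] at g0 g1 g2
  have e : cyc a b i = g * cyc (0 : Fin 12) 1 2 * g⁻¹ := by
    rw [cyc_conj g (by decide) (by decide), g0, g1, g2]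
  have h1 : (LinearMap.range (P (cyc (0 : Fin 12) 1 2) - 1)).map (P g) =
      LinearMap.range (P (cyc a b i) - 1) := by
    have hc : P g * (P (cyc (0 : Fin 12) 1 2) - 1) = (P (cyc a b i) - 1) * P g := by
      rw [mul_sub, sub_mul, mul_one, one_mul, ← map_mul, ← map_mul, e, inv_mul_cancel_right]
    refine le_antisymm ?_ ?_
    · rintro _ ⟨_, ⟨u, rfl⟩, rfl⟩
      exact ⟨P g u, (LinearMap.congr_fun hc u).symm⟩
    · rintro _ ⟨u, rfl⟩
      refine ⟨(P (cyc (0 : Fin 12) 1 2) - 1) (P g⁻¹ u), ⟨_, rfl⟩, ?_⟩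
      refine (LinearMap.congr_fun hc (P g⁻¹ u)).trans ?_
      rw [Module.End.mul_apply, ← Module.End.mul_apply (P g), ← map_mul, mul_inv_cancel, map_one,
        Module.End.one_apply]
  rw [← h1]
  exact ((LinearMap.range _).equivMapOfInjective (P g) (P_injective_apply P g)).finrank_eq.symm

variable [FiniteDimensional K V] (hinj : Function.Injective P)
  (hirr : ∀ W : Submodule K V, (∀ σ, ∀ v ∈ W, P σ v ∈ W) → W = ⊥ ∨ W = ⊤)
  (hdisj : ∀ x : Fin 6 → Fin 12, Function.Injective x →
    (P (cyc (x 0) (x 1) (x 2)) - 1) * (P (cyc (x 3) (x 4) (x 5)) - 1) = 0)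

include hirr in
theorem le_twelve_of_tspace_ne_top (h : tspace P (seg 11) ≠ ⊤) : finrank K V ≤ 12 := by
  classical
  obtain ⟨φ, hφ, hφT⟩ := Submodule.exists_le_ker_of_lt_top _ (lt_top_iff_ne_top.2 h)
  have hne : ∃ v, φ v ≠ 0 := by
    by_contra hall
    push Not at hall
    exact hφ (LinearMap.ext hall)
  set z : Fin 12 := 11
  have hG : ∀ w : Fin 12, ∃ g : alternatingGroup (Fin 12), (g : Perm (Fin 12)) z = w := fun w => by
    obtain ⟨g, hg⟩ := exists_even_map (α := Fin 12) (m := 1) (by rw [Fintype.card_fin]; omega)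
      ![z] ![w] (fun _ _ _ => Subsingleton.elim _ _) (fun _ _ _ => Subsingleton.elim _ _)
    exact ⟨g, hg 0⟩
  choose g hg using hG
  -- the stabiliser of the last point fixes the functional
  have hstab : ∀ σ : alternatingGroup (Fin 12), (σ : Perm (Fin 12)) z = z →
      ∀ v, φ v = 0 → φ (P σ v) = 0 := by
    intro σ hσ v hv
    have hmem : LinearMap.range (P σ - 1) ≤ LinearMap.ker φ := by
      let Fx : Subgroup (alternatingGroup (Fin 12)) := movers P (LinearMap.ker φ)
      suffices σ ∈ Fx from this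
      -- three-cycles fixing the point
      have h3 : ∀ a b i : Fin 12, a ≠ b → a ≠ i → b ≠ i → a ≠ z → b ≠ z → i ≠ z → cyc a b i ∈ Fx :=
        fun a b i h1 h2 h3 ha hb hi => (range_le_tspace P h1 h2 h3
          (mem_seg.2 (by simp [z, Fin.ext_iff] at ha; omega))
          (mem_seg.2 (by simp [z, Fin.ext_iff] at hb; omega))
          (mem_seg.2 (by simp [z, Fin.ext_iff] at hi; omega))).trans hφT
      let S := {q : Fin 12 // q ≠ z}
      let ι : alternatingGroup S →* alternatingGroup (Fin 12) :=
        ((Perm.ofSubtype).comp (alternatingGroup S).subtype).codRestrict _ fun g => by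
          rw [mem_alternatingGroup]
          show Perm.sign (Perm.ofSubtype (g : Perm S)) = 1
          rw [Perm.sign_ofSubtype]
          exact mem_alternatingGroup.1 g.2
      have hp : ∀ q, (σ : Perm (Fin 12)) q ≠ z ↔ q ≠ z := fun q => by
        conv_lhs => rw [← hσ]
        exact (σ : Perm (Fin 12)).injective.ne_iff
      let τ : Perm S := (σ : Perm (Fin 12)).subtypePerm hp
      have hτ : Perm.ofSubtype τ = (σ : Perm (Fin 12)) :=
        Perm.ofSubtype_subtypePerm _ fun q hq e => hq (e ▸ hσ)
      have hτA : τ ∈ alternatingGroup S := by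
        rw [mem_alternatingGroup, ← Perm.sign_ofSubtype, hτ]
        exact mem_alternatingGroup.1 σ.2
      have hu : (⟨0, by decide⟩ : S) ≠ ⟨1, by decide⟩ := by simp
      have htop : Fx.comap ι = ⊤ := by
        rw [eq_top_iff, ← closure_cyc hu, Subgroup.closure_le]
        rintro _ ⟨i, hiu, hiv, rfl⟩
        show ι (cyc _ _ i) ∈ Fx
        have e1 : ι (cyc (⟨0, by decide⟩ : S) ⟨1, by decide⟩ i) = cyc (0 : Fin 12) 1 i := by
          have hall : ∀ i : S, i ≠ ⟨0, by decide⟩ → i ≠ ⟨1, by decide⟩ →
              ι (cyc (⟨0, by decide⟩ : S) ⟨1, by decide⟩ i) = cyc (0 : Fin 12) 1 i := by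
            decide +kernel
          exact hall i hiu hiv
        rw [e1]
        exact h3 _ _ _ (by decide) (fun e => hiu (Subtype.ext e.symm))
          (fun e => hiv (Subtype.ext e.symm)) (by decide) (by decide) i.2
      have h' : (⟨τ, hτA⟩ : alternatingGroup S) ∈ Fx.comap ι := htop ▸ Subgroup.mem_top _
      have e2 : ι ⟨τ, hτA⟩ = σ := Subtype.ext hτ
      rwa [Subgroup.mem_comap, e2] at h'
    have h0 : φ ((P σ - 1) v) = 0 := hmem ⟨v, rfl⟩
    simpa [hv] using h0
  let Φ : V →ₗ[K] (Fin 12 → K) := LinearMap.pi fun w => φ.comp (P (g w)⁻¹)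
  have hΦ : LinearMap.ker Φ = ⊥ := by
    refine (hirr _ fun σ v hv => ?_).resolve_right fun htop => ?_
    · rw [LinearMap.mem_ker] at hv ⊢
      funext w
      show φ (P (g w)⁻¹ (P σ v)) = 0
      set w' := (σ : Perm (Fin 12))⁻¹ w
      have hv' : φ (P (g w')⁻¹ v) = 0 := congrFun hv w'
      have := hstab ((g w)⁻¹ * σ * g w') (by
        simp only [Subgroup.coe_mul, Subgroup.coe_inv, Perm.mul_apply, hg, w', Perm.coe_inv,
          Equiv.apply_symm_apply]
        exact (Equiv.symm_apply_eq _).2 (hg w).symm) _ hv'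
      rwa [← Module.End.mul_apply, ← map_mul, mul_inv_cancel_right, map_mul,
        Module.End.mul_apply] at this
    · obtain ⟨v, hv⟩ := hne
      refine hv ?_
      have hmem : P (g z) v ∈ LinearMap.ker Φ := htop ▸ Submodule.mem_top
      have h0 : φ (P (g z)⁻¹ (P (g z) v)) = 0 := congrFun (LinearMap.mem_ker.1 hmem) z
      rwa [P_inv_apply] at h0
  have := LinearMap.finrank_le_finrank_of_injective (LinearMap.ker_eq_bot.1 hΦ)
  simpa using this

theorem swap_conj : ∃ g : alternatingGroup (Fin 12),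
    g * cyc (0 : Fin 12) 1 2 = cyc 0 1 2 * cyc 0 1 2 * g :=
  ⟨⟨swap 0 1 * swap 3 4, mem_alternatingGroup.2 (by decide)⟩, by decide +kernel⟩

include hinj hirr hdisj in
/-- The bound. -/
theorem disj_bound {ζ : K} (hζ : IsPrimitiveRoot ζ 3) :
    ∃ d, 1 ≤ d ∧ 10 * d ≤ finrank K V ∧ ∀ a b i : Fin 12, a ≠ b → a ≠ i → b ≠ i →
      finrank K (LinearMap.range (P (cyc a b i) - 1)) = 2 * d := by
  set T := P (cyc (0 : Fin 12) 1 2)
  obtain ⟨g, hgc⟩ := swap_conj
  have hR := two_halves hζ (T := T) (S := P g) (S' := P g⁻¹)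
    (by rw [← map_mul, ← map_mul, ← pow_two, ← pow_succ,
      cyc_cube (by decide) (by decide) (by decide), map_one])
    (by rw [← map_mul, inv_mul_cancel, map_one])
    (by simp only [T, ← map_mul, hgc])
  set d := finrank K (LinearMap.ker (T - ζ • 1))
  have hd1 : 1 ≤ d := by
    by_contra h0
    have : finrank K (LinearMap.range (T - 1)) = 0 := by omega
    exact cyc_sub_one_ne_zero P hinj (by decide) (by decide) (by decide)
      (LinearMap.range_eq_bot.1 (Submodule.finrank_eq_zero.1 this))
  refine ⟨d, hd1, ?_, fun a b i hab hai hbi => (finrank_range_cyc_eq P hab hai hbi).trans hR⟩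
  set D : ℕ → ℕ := fun k => finrank K (tspace P (seg k)) with hD
  have h3 : 2 * d ≤ D 3 := hR ▸ Submodule.finrank_mono
    (range_le_tspace P (by decide) (by decide) (by decide) (mem_seg.2 (by decide))
      (mem_seg.2 (by decide)) (mem_seg.2 (by decide)))
  have hmono : ∀ k, D k ≤ D (k + 1) := fun k => Submodule.finrank_mono
    (tspace_mono P fun i hi => mem_seg.2 (by have := mem_seg.1 hi; omega))
  have hcat : ∀ k, 3 ≤ k → k ≤ 9 → D (k + 2) + D k ≤ D (k + 1) + D (k + 1) := by
    intro k hk3 hk9
    set x : Fin 12 := ⟨k, by omega⟩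
    set y : Fin 12 := ⟨k + 1, by omega⟩
    have hx : x ∉ seg k := by simp [mem_seg, x]
    have hy : y ∉ seg k := by simp [mem_seg, y]
    have hyx : y ∉ insert x (seg k) := by simp [mem_seg, x, y]
    have e1 : seg (k + 1) = insert x (seg k) := by
      ext i; simp [mem_seg, x, Fin.ext_iff]; omega
    have e2 : seg (k + 2) = insert y (seg (k + 1)) := by
      ext i; simp [mem_seg, y, Fin.ext_iff]; omega
    set A := tspace P (insert x (seg k))
    set B := tspace P (insert y (seg k))
    have hB : finrank K B = D (k + 1) := by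
      have hc : (insert y (seg k)).card = k + 1 := by
        rw [Finset.card_insert_of_notMem hy, card_seg k (by omega)]
      rw [show finrank K B = _ from finrank_tspace_eq P (J := insert y (seg k)) (by omega), hc]
    have hsup : tspace P (seg (k + 2)) ≤ A ⊔ B := by
      rw [e2, e1]
      refine (tspace_insert_le P (a := 0) (b := 1) ?_ (by decide) ?_ ?_ hyx).trans
        (sup_le_sup_left (range_le_tspace P (by decide) ?_ ?_ ?_ ?_ (Finset.mem_insert_self y _)) A)
      · rw [Finset.card_insert_of_notMem hx, card_seg k (by omega)]; omega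
      all_goals
        simp [mem_seg, y, Fin.ext_iff]
        try omega
    have hinf : tspace P (seg k) ≤ A ⊓ B :=
      le_inf (tspace_mono P (Finset.subset_insert _ _)) (tspace_mono P (Finset.subset_insert _ _))
    have := Submodule.finrank_sup_add_finrank_inf_eq A B
    have := Submodule.finrank_mono hsup
    have := Submodule.finrank_mono hinf
    have hA : finrank K A = D (k + 1) := by
      show _ = finrank K (tspace P (seg (k + 1)))
      rw [e1]
    simp only [hD] at *
    omega
  by_cases htop : tspace P (seg 11) = ⊤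
  · have h11 : D 11 = finrank K V := by
      show finrank K (tspace P (seg 11)) = _
      rw [htop, finrank_top]
    have h9 : D 9 + 2 * d ≤ finrank K V := by
      have hk := Submodule.finrank_mono (tspace_le_ker P hdisj (J := seg 9) (s := 9) (t := 10) (u := 11)
        (by decide) (by decide) (by decide) (by decide) (by decide) (by decide))
      have hn := LinearMap.finrank_range_add_finrank_ker (P (cyc (9 : Fin 12) 10 11) - 1)
      rw [(finrank_range_cyc_eq P (a := 9) (b := 10) (i := 11) (by decide) (by decide) (by decide)).trans hR]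
        at hn
      show finrank K (tspace P (seg 9)) + 2 * d ≤ _
      omega
    have c3 := hcat 3 le_rfl (by norm_num); have c4 := hcat 4 (by norm_num) (by norm_num)
    have c5 := hcat 5 (by norm_num) (by norm_num); have c6 := hcat 6 (by norm_num) (by norm_num)
    have c7 := hcat 7 (by norm_num) (by norm_num); have c8 := hcat 8 (by norm_num) (by norm_num)
    have c9 := hcat 9 (by norm_num) le_rfl
    norm_num at c3 c4 c5 c6 c7 c8 c9
    have := hmono 9; have := hmono 10
    norm_num at *
    omega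
  · have h12 := le_twelve_of_tspace_ne_top P hirr htop
    have h := finrank_tspace_add_le P hinj hirr hdisj (by norm_num) 6 (J := seg 3)
      (by rw [card_seg 3 (by norm_num)]) (by rw [card_seg 3 (by norm_num)])
    have e : finrank K (LinearMap.range (P (cyc (⟨0, by omega⟩ : Fin 12) ⟨1, by omega⟩ ⟨2, by omega⟩) - 1))
        = 2 * d := hR
    rw [e] at h
    show 10 * d ≤ finrank K V
    have : 2 * d ≤ finrank K (tspace P (seg 3)) := h3
    omega

end CfsgLib.AltE6
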