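import Cfsg.Agent.Perm.OnePointMeet
import Cfsg.Agent.BPres.Carmichael

/-!
Subgroups of small index in the alternating group of degree twelve.
-/

set_option autoImplicit false

namespace CfsgLib.AltE6

open Equiv Equiv.Perm MulAction Pointwise

/-- The seven-cycle as a product of three-cycles. -/
def s7 : alternatingGroup (Fin 12) :=
  BPres.cyc 0 1 2 * BPres.cyc 2 3 4 * BPres.cyc 4 5 6

/-- The eleven-cycle as a product of three-cycles. -/
def s11 : alternatingGroup (Fin 12) :=
  BPres.cyc 0 1 2 * BPres.cyc 2 3 4 * BPres.cyc 4 5 6 * BPres.cyc 6 7 8 * BPres.cyc 8 9 10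

theorem card_alt12 : Nat.card (alternatingGroup (Fin 12)) = 239500800 := by
  have h := two_mul_nat_card_alternatingGroup (α := Fin 12)
  rw [Nat.card_perm, Nat.card_eq_fintype_card (α := Fin 12), Fintype.card_fin,
    show Nat.factorial 12 = 479001600 by decide] at h
  omega

/-- An element of prime order at least seven moves at least that many points. -/
theorem prime_le_card_support {g : Perm (Fin 12)} {ℓ : ℕ} [Fact ℓ.Prime] (hg : orderOf g = ℓ) :
    ℓ ≤ g.support.card := by
  obtain ⟨n, hn⟩ := Equiv.Perm.cycleType_prime_order (σ := g) (by rw [hg]; exact Fact.out)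
  have := Equiv.Perm.sum_cycleType g
  rw [hn, hg, Multiset.sum_replicate, smul_eq_mul] at this
  rw [← this]
  exact Nat.le_mul_of_pos_left _ (Nat.succ_pos n)

/-- A set invariant under an element of prime order contains the orbit of each of its moved points. -/
theorem prime_le_card_of_invariant {g : Perm (Fin 12)} {ℓ : ℕ} [Fact ℓ.Prime] (hg : orderOf g = ℓ)
    {B : Set (Fin 12)} (hB : g • B = B) {a : Fin 12} (ha : a ∈ B) (hga : g a ≠ a) :
    ℓ ≤ B.ncard := by
  have hmem : ∀ i : ℕ, (g ^ i) a ∈ B := fun i => by
    induction i with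
    | zero => exact ha
    | succ i ih =>
      rw [pow_succ', Perm.mul_apply, ← hB]
      exact ⟨_, ih, rfl⟩
  have hinj : Function.Injective fun i : Fin ℓ => (g ^ (i : ℕ)) a := by
    intro i j hij
    by_contra hne
    wlog hlt : (i : ℕ) < j generalizing i j
    · exact this hij.symm (Ne.symm hne) (lt_of_le_of_ne (not_lt.1 hlt) fun e => hne (Fin.ext e.symm))
    have h1 : (g ^ ((j : ℕ) - i)) a = a := by
      refine (g ^ (i : ℕ)).injective ?_
      rw [← Perm.mul_apply, ← pow_add, Nat.add_sub_cancel' hlt.le]
      exact hij.symm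
    have hcop : Nat.Coprime ((j : ℕ) - i) (orderOf g) := by
      rw [hg]
      exact ((Fact.out : ℓ.Prime).coprime_iff_not_dvd.2 fun hd => by
        have := Nat.le_of_dvd (by omega) hd
        have := j.isLt
        omega).symm
    obtain ⟨m, hm⟩ := exists_pow_eq_self_of_coprime hcop
    refine hga ?_
    rw [← hm]
    induction m with
    | zero => rfl
    | succ m _ => exact (Perm.pow_apply_eq_self_of_apply_eq_self h1 _)
  have := Set.ncard_le_ncard (s := Set.range fun i : Fin ℓ => (g ^ (i : ℕ)) a) (t := B)
    (by rintro _ ⟨i, rfl⟩; exact hmem i)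
  rwa [Set.ncard_range_of_injective hinj, Nat.card_eq_fintype_card, Fintype.card_fin] at this

/-- A subgroup of small index has everything or fixes a point. -/
theorem index_small (I : Subgroup (alternatingGroup (Fin 12))) (hI : I.index ≤ 27) :
    I = ⊤ ∨ ∃ f : Fin 12, ∀ g ∈ I, (g : Perm (Fin 12)) f = f := by
  classical
  have hmul := I.card_mul_index
  rw [card_alt12] at hmul
  have hbig : 8870400 ≤ Nat.card I := by nlinarith
  -- an element of order seven or eleven
  obtain ⟨ℓ, hℓ, hℓ7, hdvd⟩ : ∃ ℓ : ℕ, ℓ.Prime ∧ 7 ≤ ℓ ∧ ℓ ∣ Nat.card I := by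
    by_contra hall
    push Not at hall
    have h7 : 7 ∣ I.index := ((Nat.Prime.dvd_mul (by norm_num)).1 (show 7 ∣ Nat.card I * I.index by
      rw [hmul]; norm_num)).resolve_left (hall 7 (by norm_num) le_rfl)
    have h11 : 11 ∣ I.index := ((Nat.Prime.dvd_mul (by norm_num)).1 (show 11 ∣ Nat.card I * I.index by
      rw [hmul]; norm_num)).resolve_left (hall 11 (by norm_num) (by norm_num))
    have := Nat.le_of_dvd (Nat.pos_of_ne_zero Subgroup.index_ne_zero_of_finite)
      (Nat.Coprime.mul_dvd_of_dvd_of_dvd (by norm_num) h7 h11)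
    omega
  haveI := Fact.mk hℓ
  obtain ⟨⟨⟨g, hgA⟩, hgI⟩, hg⟩ := exists_prime_orderOf_dvd_card' ℓ hdvd
  rw [← Subgroup.orderOf_coe, ← Subgroup.orderOf_coe] at hg
  set J : Subgroup (Perm (Fin 12)) := I.map (alternatingGroup (Fin 12)).subtype with hJdef
  have hJcard : Nat.card J = Nat.card I := Subgroup.card_subtype _ _
  have hgJ : g ∈ J := ⟨⟨g, hgA⟩, hgI, rfl⟩
  have hsupp : ℓ ≤ g.support.card := prime_le_card_support hg
  obtain ⟨a, ha⟩ : ∃ a, g a ≠ a := by
    obtain ⟨a, ha⟩ := Finset.card_pos.1 (show 0 < g.support.card by omega)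
    exact ⟨a, Perm.mem_support.1 ha⟩
  by_cases htr : IsPretransitive J (Fin 12)
  · left
    haveI : IsPreprimitive J (Fin 12) := IsPreprimitive.of_isTrivialBlock_base a fun {B} haB hB => by
      have hmul2 := hB.ncard_block_mul_ncard_orbit_eq ⟨a, haB⟩
      rw [Nat.card_eq_fintype_card, Fintype.card_fin] at hmul2
      by_cases hfix : g • B = B
      · right
        have h1 := prime_le_card_of_invariant hg hfix haB ha
        rw [Set.eq_univ_iff_forall]
        by_contra hne
        push Not at hne
        have h2 : B.ncard ≠ 12 := fun e => by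
          obtain ⟨x, hx⟩ := hne
          have : B = Set.univ := Set.eq_of_subset_of_ncard_le (Set.subset_univ _)
            (by rw [Set.ncard_univ, Nat.card_eq_fintype_card, Fintype.card_fin, e])
          exact hx (this ▸ Set.mem_univ x)
        have h4 : 2 ≤ (orbit J B).ncard := by
          by_contra h5
          interval_cases h : (orbit J B).ncard <;> omega
        nlinarith
      · left
        have h1 : ℓ ≤ (orbit J B).ncard := by
          have hinj : Function.Injective fun i : Fin ℓ =>
              ((⟨g, hgJ⟩ : J) ^ (i : ℕ)) • B := by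
            intro i j hij
            by_contra hne
            wlog hlt : (i : ℕ) < j generalizing i j
            · exact this hij.symm (Ne.symm hne)
                (lt_of_le_of_ne (not_lt.1 hlt) fun e => hne (Fin.ext e.symm))
            have h1 : ((⟨g, hgJ⟩ : J) ^ ((j : ℕ) - i)) • B = B := by
              refine MulAction.injective ((⟨g, hgJ⟩ : J) ^ (i : ℕ)) ?_
              show _ • (_ • B) = _ • B
              rw [smul_smul, ← pow_add, Nat.add_sub_cancel' hlt.le]
              exact hij.symm
            have hcop : Nat.Coprime ((j : ℕ) - i) (orderOf (⟨g, hgJ⟩ : J)) := by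
              rw [← Subgroup.orderOf_coe, hg]
              exact (hℓ.coprime_iff_not_dvd.2 fun hd => by
                have := Nat.le_of_dvd (by omega) hd
                have := j.isLt
                omega).symm
            obtain ⟨m, hm⟩ := exists_pow_eq_self_of_coprime hcop
            refine hfix ?_
            have h2 : (⟨g, hgJ⟩ : J) ∈ stabilizer J B := by
              rw [← hm]; exact pow_mem (mem_stabilizer_iff.2 h1) m
            exact h2
          have := Set.ncard_le_ncard
            (s := Set.range fun i : Fin ℓ => ((⟨g, hgJ⟩ : J) ^ (i : ℕ)) • B) (t := orbit J B)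
            (by rintro _ ⟨i, rfl⟩; exact mem_orbit _ _) (Set.toFinite _)
          rwa [Set.ncard_range_of_injective hinj, Nat.card_eq_fintype_card, Fintype.card_fin] at this
        have h2 : B.ncard ≤ 1 := by nlinarith
        exact Set.ncard_le_one_iff_subsingleton.1 h2
    have hle : alternatingGroup (Fin 12) ≤ J := by
      by_contra hA
      have := OnePointMeet.bochert J inferInstance hA
      rw [Fintype.card_fin, show Nat.factorial 12 = 479001600 by decide,
        show Nat.factorial ((12 + 1) / 2) = 720 by decide] at this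
      omega
    rw [eq_top_iff]
    intro x _
    obtain ⟨y, hy, hyx⟩ := hle x.2
    rwa [show x = y from Subtype.ext hyx.symm]
  · right
    set O : Finset (Fin 12) := (orbit J a).toFinset with hO
    have hmemO : ∀ x, x ∈ O ↔ x ∈ orbit J a := fun x => Set.mem_toFinset
    have hinv : ∀ h ∈ J, ∀ x, x ∈ O ↔ h x ∈ O := fun h hh x => by
      rw [hmemO, hmemO, show h x = (⟨h, hh⟩ : J) • x from rfl, ← orbit_eq_iff, ← orbit_eq_iff,
        orbit_smul]
    have hk : ℓ ≤ O.card := by
      rw [hO, ← Set.ncard_eq_toFinset_card']
      refine prime_le_card_of_invariant hg ?_ (mem_orbit_self a) ha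
      exact smul_orbit (⟨g, hgJ⟩ : J) a
    have hne : ∃ f, f ∉ O := by
      by_contra hall
      push Not at hall
      refine htr ⟨fun x y => ?_⟩
      obtain ⟨u, rfl⟩ := (hmemO x).1 (hall x)
      obtain ⟨v, rfl⟩ := (hmemO y).1 (hall y)
      exact ⟨v * u⁻¹, by show (v * u⁻¹) • (u • a) = v • a; rw [smul_smul, inv_mul_cancel_right]⟩
    have hbound : Nat.card J ≤ O.card.factorial * (12 - O.card).factorial := by
      let φ : J → Perm {x // x ∈ O} × Perm {x // x ∉ O} := fun h =>
        ((h : Perm (Fin 12)).subtypePerm fun x => (hinv h h.2 x).symm,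
         (h : Perm (Fin 12)).subtypePerm fun x => (hinv h h.2 x).symm.not)
      have hφ : Function.Injective φ := fun h h' e => by
        refine Subtype.ext (Equiv.ext fun x => ?_)
        obtain ⟨e1, e2⟩ := Prod.ext_iff.1 e
        by_cases hx : x ∈ O
        · exact congrArg Subtype.val (Equiv.congr_fun e1 ⟨x, hx⟩)
        · exact congrArg Subtype.val (Equiv.congr_fun e2 ⟨x, hx⟩)
      have := Nat.card_le_card_of_injective φ hφ
      rw [Nat.card_prod, Nat.card_perm, Nat.card_perm, Nat.card_eq_fintype_card (α := {x // x ∈ O}),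
        Nat.card_eq_fintype_card (α := {x // x ∉ O}), Fintype.card_coe, Fintype.card_subtype_compl,
        Fintype.card_coe, Fintype.card_fin] at this
      exact this
    have hle : O.card ≤ 11 := by
      obtain ⟨f, hf⟩ := hne
      have := Finset.card_lt_univ_of_notMem hf
      rw [Fintype.card_fin] at this
      omega
    have h11 : O.card = 11 := by
      by_contra hne11
      have h7 : 7 ≤ O.card := hℓ7.trans hk
      have : O.card ≤ 10 := by omega
      interval_cases h : O.card <;> simp [Nat.factorial, -Nat.card_eq_fintype_card] at hbound <;> omega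
    obtain ⟨f, hf⟩ := hne
    refine ⟨f, fun h hh => ?_⟩
    by_contra hne2
    have hsub : ({(h : Perm (Fin 12)) f, f} : Finset (Fin 12)) ⊆ Oᶜ := fun x hx => by
      simp only [Finset.mem_insert, Finset.mem_singleton] at hx
      rw [Finset.mem_compl]
      rcases hx with rfl | rfl
      · exact fun hc => hf ((hinv _ ⟨h, hh, rfl⟩ f).2 hc)
      · exact hf
    have := Finset.card_le_card hsub
    rw [Finset.card_pair hne2, Finset.card_compl, Fintype.card_fin, h11] at this
    omega

end CfsgLib.AltE6
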