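import Cfsg.Agent.AltE6.NonDisj

/-!
Disjoint three-cycles have orthogonal images in degree at most twenty-seven.
-/

set_option autoImplicit false

namespace CfsgLib.AltE6

open Equiv Equiv.Perm Module CfsgLib.BPres CfsgLib.AltSection

variable {H : Type} [Group H] {C : Cover 12 H} {K V : Type} [Field K] [AddCommGroup V] [Module K V]
  (R : Rep C K V) (e : Fin 4 × ZMod 3 ↪ Fin 12)

/-- Change of orientation inside the blocks. -/
def flipE (w : Fin 4 → (ZMod 3)ˣ) : Fin 4 × ZMod 3 ↪ Fin 12 :=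
  (Equiv.prodCongrRight fun i => (w i).mulLeft).toEmbedding.trans e

theorem flipE_apply (w : Fin 4 → (ZMod 3)ˣ) (l : Fin 4) (t : ZMod 3) :
    flipE e w (l, t) = e (l, (w l : ZMod 3) * t) := rfl

theorem blockCyc_flip (w : Fin 4 → (ZMod 3)ˣ) (i : Fin 4) :
    blockCyc (flipE e w) odd3 i = blockCyc e odd3 i ^ (w i : ZMod 3).val := by
  refine Subtype.ext (Equiv.ext fun y => ?_)
  obtain ⟨⟨l, t⟩, rfl⟩ := e_surj (flipE e w) y
  conv_lhs => rw [blockCyc_apply, shift_apply, flipE_apply]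
  rw [flipE_apply, blockCyc_pow_apply, shift_apply, ZMod.natCast_zmod_val]
  refine congrArg e (Prod.ext rfl ?_)
  by_cases h : l = i
  · subst h; simp [mul_add]
  · simp [h]

theorem blockOp_flip (w : Fin 4 → (ZMod 3)ˣ) (i : Fin 4) :
    blockOp R (flipE e w) odd3 i = blockOp R e odd3 i ^ (w i : ZMod 3).val := by
  rw [blockOp, blockCyc_flip, C.lift_pow (odd_orderOf_blockCyc e odd3 i), map_pow]
  rfl

theorem pow_apply_eigen {f : Module.End K V} {μ : K} {v : V} (hv : f v = μ • v) :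
    ∀ m : ℕ, (f ^ m) v = μ ^ m • v := fun m => by
  induction m with
  | zero => simp
  | succ m ih => rw [pow_succ', Module.End.mul_apply, ih, map_smul, hv, smul_smul, pow_succ]

theorem false_of_four_ker [Finite H] [FiniteDimensional K V] (h27 : finrank K V ≤ 27)
    (hker : C.π.ker ≠ ⊥) {ζ : K} (hζ : IsPrimitiveRoot ζ 3) {w : Fin 4 → ZMod 3}
    (hw : IsWeight (blockOp R e odd3) ζ w) (h4 : (supp w).card = 4) : False := by
  classical
  have hsq : ∀ u : (ZMod 3)ˣ, (u : ZMod 3).val * (u : ZMod 3).val % 3 = 1 := by decide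
  have hmod : ∀ m : ℕ, m % 3 = 1 → ζ ^ m = ζ := fun m hm => by
    rw [pow_eq_pow_mod m hζ.pow_eq_one, hm, pow_one]
  have hev : ∀ (u : Fin 4 → (ZMod 3)ˣ), ∀ v ∈ ones R (flipE e u) ζ, ∀ i,
      blockOp R e odd3 i v = ζ ^ (u i : ZMod 3).val • v := by
    intro u v hv i
    have h := (mem_ones R (flipE e u)).1 hv i
    have h' := pow_apply_eigen h (u i : ZMod 3).val
    rw [blockOp_flip, ← pow_mul, pow_eq_pow_mod _ (blockOp_pow R e odd3 i), hsq, pow_one] at h'
    exact h'
  have h2 : ∀ u : Fin 4 → (ZMod 3)ˣ, 2 ≤ finrank K (ones R (flipE e u) ζ) := by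
    intro u
    refine two_le_ones R _ hker ((Submodule.ne_bot_iff _).2 ?_)
    have hu : (supp fun i => (u i : ZMod 3)).card = 4 := by
      rw [show supp (fun i => (u i : ZMod 3)) = Finset.univ from
        Finset.eq_univ_iff_forall.2 fun i => mem_supp.2 (u i).ne_zero, Finset.card_univ,
        Fintype.card_fin]
    obtain ⟨v, hv0, hv⟩ := isWeight_of_supp_card R e odd3 hζ (by norm_num) exists_chi_three hw
      (h4.trans hu.symm)
    refine ⟨v, (mem_ones R _).2 fun i => ?_, hv0⟩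
    rw [blockOp_flip, pow_apply_eigen (hv i), ← pow_mul, hmod _ (hsq _)]
  have h := card_mul_le_finrank (blockOp R e odd3)
    (fun (u : Fin 4 → (ZMod 3)ˣ) (i : Fin 4) => ζ ^ (u i : ZMod 3).val)
    (fun u u' h => funext fun i => Units.ext (pow_val_inj hζ (congrFun h i)))
    (fun u => ones R (flipE e u) ζ) hev h2
  rw [show Fintype.card (Fin 4 → (ZMod 3)ˣ) = 16 by simp [Nat.totient_prime Nat.prime_three]] at h
  omega

/-- Points away from the first block. -/
def Off (t : Fin 3 → Fin 12) : Prop := Function.Injective t ∧ ∀ i s, e (0, s) ≠ t i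

theorem Off.ne {t : Fin 3 → Fin 12} (ht : Off e t) :
    t 0 ≠ t 1 ∧ t 0 ≠ t 2 ∧ t 1 ≠ t 2 :=
  ⟨ht.1.ne (by decide), ht.1.ne (by decide), ht.1.ne (by decide)⟩

/-- The operator of a three-cycle. -/
noncomputable def qop (t : Fin 3 → Fin 12) : Module.End K V := R.ρ (C.tl (t 0) (t 1) (t 2))

theorem block_off (i : Fin 4) (hi : i ≠ 0) :
    Off e fun j => e (i, ((j : ℕ) : ZMod 3)) := by
  refine ⟨fun s t h => ?_, fun j s h => hi (Prod.ext_iff.1 (e.injective h)).1.symm⟩
  have h' := (Prod.ext_iff.1 (e.injective h)).2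
  have := (ZMod.natCast_eq_natCast_iff' _ _ 3).1 h'
  exact Fin.ext (by omega)

variable [Finite H] [IsAlgClosed K] [FiniteDimensional K V]

theorem fix_transfer {p : ℕ} [Fact p.Prime] [CharP K p] (hp3 : p ≠ 3) (h27 : finrank K V ≤ 27)
    {ζ : K} (hζ : IsPrimitiveRoot ζ 3) {t t' : Fin 3 → Fin 12} (ht : Off e t) (ht' : Off e t')
    (hd : ∀ i j, t i ≠ t' j) {v : V} (hv : v ∈ eig0 R e ζ) (hq : qop R t v = v) :
    qop R t' v = v := by
  classical
  let y : Fin 9 → Fin 12 := Fin.cons (e (0, 0)) (Fin.cons (e (0, 1)) (Fin.cons (e (0, 2))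
    ![t 0, t 1, t 2, t' 0, t' 1, t' 2]))
  have hsix : Function.Injective ![t 0, t 1, t 2, t' 0, t' 1, t' 2] := by
    obtain ⟨a1, a2, a3⟩ := Off.ne e ht
    obtain ⟨b1, b2, b3⟩ := Off.ne e ht'
    intro a b hab
    fin_cases a <;> fin_cases b <;>
      simp [a1, a2, a3, b1, b2, b3, a1.symm, a2.symm, a3.symm, b1.symm, b2.symm, b3.symm, hd,
        fun i j => (hd i j).symm] at hab ⊢
  have hrange : ∀ s, e (0, s) ∉ Set.range ![t 0, t 1, t 2, t' 0, t' 1, t' 2] := by
    rintro s ⟨a, ha⟩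
    fin_cases a <;> first | exact ht.2 _ s ha.symm | exact ht'.2 _ s ha.symm
  have hy : Function.Injective y := by
    refine Fin.cons_injective_iff.2 ⟨?_, Fin.cons_injective_iff.2 ⟨?_,
      Fin.cons_injective_iff.2 ⟨hrange 2, hsix⟩⟩⟩
    · simp only [Fin.range_cons, Set.mem_insert_iff, not_or]
      exact ⟨e_ne' e (by decide), e_ne' e (by decide), hrange 0⟩
    · simp only [Fin.range_cons, Set.mem_insert_iff, not_or]
      exact ⟨e_ne' e (by decide), hrange 1⟩
  obtain ⟨e', he'⟩ := exists_block_emb (k := 4) (b := 3) (r := 12) (m := 9) (by norm_num) (by norm_num)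
    ![(0, 0), (0, 1), (0, 2), (1, 0), (1, 1), (1, 2), (2, 0), (2, 1), (2, 2)] y (by decide) hy
  have e0 := he' 0; have e1 := he' 1; have e2 := he' 2; have e3 := he' 3; have e4 := he' 4
  have e5 := he' 5; have e6 := he' 6; have e7 := he' 7; have e8 := he' 8
  change e' (0, 0) = e (0, 0) at e0
  change e' (0, 1) = e (0, 1) at e1
  change e' (0, 2) = e (0, 2) at e2
  change e' (1, 0) = t 0 at e3
  change e' (1, 1) = t 1 at e4
  change e' (1, 2) = t 2 at e5
  change e' (2, 0) = t' 0 at e6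
  change e' (2, 1) = t' 1 at e7
  change e' (2, 2) = t' 2 at e8
  set f := blockOp R e' odd3 with hf
  have hf0 : f 0 = blockOp R e odd3 0 := by rw [hf, bl_eq, bl_eq, e0, e1, e2]
  have hf1 : f 1 = qop R t := by rw [hf, bl_eq, e3, e4, e5]; rfl
  have hf2 : f 2 = qop R t' := by rw [hf, bl_eq, e6, e7, e8]; rfl
  rw [mem_eig0, ← hf0] at hv
  rw [← hf1] at hq
  rw [← hf2]
  by_contra hne
  have h3K := natCast_ne_zero_of_prime (K := K) (Fact.out : p.Prime) Nat.prime_three hp3
  let F : Submodule K V := LinearMap.ker (f 0 - ζ • 1) ⊓ LinearMap.ker (f 1 - 1)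
  have hF : ∀ x, x ∈ F ↔ f 0 x = ζ • x ∧ f 1 x = x := fun x => by simp [F, sub_eq_zero]
  have hinv : ∀ i, ∀ x ∈ F, f i x ∈ F := by
    intro i x hx
    rw [hF] at hx ⊢
    constructor
    · rw [← Module.End.mul_apply, hf, blockOp_comm, ← hf, Module.End.mul_apply, hx.1, map_smul]
    · rw [← Module.End.mul_apply, hf, blockOp_comm, ← hf, Module.End.mul_apply, hx.2]
  obtain ⟨w, u, huW, hu0, hev⟩ := exists_weight_mem hζ f (blockOp_comm R e' odd3)
    (blockOp_pow R e' odd3) (F.map (f 2 - 1))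
    (fun h => hne (sub_eq_zero.1 (by
      have : (f 2 - 1) v ∈ F.map (f 2 - 1) := ⟨v, (hF v).2 ⟨hv, hq⟩, rfl⟩
      rwa [h, Submodule.mem_bot, LinearMap.sub_apply, Module.End.one_apply] at this)))
    (fun i x hx => by
      obtain ⟨a, ha, rfl⟩ := hx
      refine ⟨f i a, hinv i a ha, ?_⟩
      simp only [LinearMap.sub_apply, Module.End.one_apply, map_sub]
      rw [← Module.End.mul_apply, hf, blockOp_comm, ← hf, Module.End.mul_apply])
  obtain ⟨a, ha, rfl⟩ := huW
  have huF : (f 2 - 1) a ∈ F := by simpa using F.sub_mem (hinv 2 a ha) ha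
  obtain ⟨h0, h1⟩ := (hF _).1 huF
  have hw0 : w 0 = 1 := pow_val_inj hζ (by
    have h := hev 0
    rw [h0] at h
    have : (ζ - ζ ^ (w 0).val) • (f 2 - 1) a = 0 := by rw [sub_smul, ← h, sub_self]
    rw [ZMod.val_one, pow_one]
    exact (sub_eq_zero.1 ((smul_eq_zero.1 this).resolve_right hu0)).symm)
  have hw1 : w 1 = 0 := pow_val_inj hζ (by
    have h := hev 1
    rw [h1] at h
    have : (1 - ζ ^ (w 1).val) • (f 2 - 1) a = 0 := by rw [sub_smul, one_smul, ← h, sub_self]
    rw [ZMod.val_zero, pow_zero]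
    exact (sub_eq_zero.1 ((smul_eq_zero.1 this).resolve_right hu0)).symm)
  have hw2 : w 2 ≠ 0 := fun h => hu0
    (eq_zero_of_mem_range_sub_one h3K (blockOp_pow R e' odd3 2)
      (by rw [← hf, hev 2, h]; simp) ⟨a, rfl⟩)
  have hwt : IsWeight f ζ w := ⟨_, hu0, hev⟩
  have hcases : ∀ w : Fin 4 → ZMod 3, w 0 = 1 → w 1 = 0 → w 2 ≠ 0 →
      (supp w).card = 2 ∨ (supp w).card = 3 := by decide
  rcases hcases w hw0 hw1 hw2 with h | h
  · exact no_supp_two R e' hp3 h27 hζ hwt h
  · exact no_supp_three R e' h27 hζ hwt h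

theorem fix_any {p : ℕ} [Fact p.Prime] [CharP K p] (hp3 : p ≠ 3) (h27 : finrank K V ≤ 27)
    {ζ : K} (hζ : IsPrimitiveRoot ζ 3) {t t' : Fin 3 → Fin 12} (ht : Off e t) (ht' : Off e t')
    {v : V} (hv : v ∈ eig0 R e ζ) (hq : qop R t v = v) : qop R t' v = v := by
  classical
  set s : Finset (Fin 12) := Finset.univ.image t ∪ Finset.univ.image t' ∪
    Finset.univ.image fun a : ZMod 3 => e (0, a)
  have hs : s.card ≤ 9 := by
    refine (Finset.card_union_le _ _).trans ?_
    refine (Nat.add_le_add ((Finset.card_union_le _ _).trans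
      (Nat.add_le_add Finset.card_image_le Finset.card_image_le)) Finset.card_image_le).trans ?_
    simp
  obtain ⟨T, hT, hTc⟩ := Finset.exists_subset_card_eq (s := sᶜ) (n := 3)
    (by rw [Finset.card_compl, Fintype.card_fin]; omega)
  let u : Fin 3 → Fin 12 := fun i => ((T.equivFinOfCardEq hTc).symm i : Fin 12)
  have hu : ∀ i, u i ∉ s := fun i => Finset.mem_compl.1 (hT (Subtype.coe_prop _))
  have huo : Off e u := ⟨Subtype.val_injective.comp (Equiv.injective _), fun i a h =>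
    hu i (Finset.mem_union_right _ (Finset.mem_image.2 ⟨a, Finset.mem_univ _, h⟩))⟩
  refine fix_transfer R e hp3 h27 hζ huo ht' (fun i j h => hu i ?_) hv
    (fix_transfer R e hp3 h27 hζ ht huo (fun i j h => hu j ?_) hv hq)
  · exact Finset.mem_union_left _ (Finset.mem_union_right _
      (Finset.mem_image.2 ⟨j, Finset.mem_univ _, h.symm⟩))
  · exact Finset.mem_union_left _ (Finset.mem_union_left _
      (Finset.mem_image.2 ⟨i, Finset.mem_univ _, h⟩))

theorem false_of_four_bot {p : ℕ} [Fact p.Prime] [CharP K p] (hp2 : p ≠ 2) (hp3 : p ≠ 3)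
    (h27 : finrank K V ≤ 27) (hker : C.π.ker = ⊥) {ζ : K} (hζ : IsPrimitiveRoot ζ 3)
    {w : Fin 4 → ZMod 3} (hw : IsWeight (blockOp R e odd3) ζ w) (h4 : (supp w).card = 4) :
    False := by
  classical
  obtain ⟨v, hv0, hv⟩ := isWeight_of_supp_card R e odd3 hζ (by norm_num) exists_chi_three hw
    (h4.trans (show 4 = (supp (fun _ : Fin 4 => (1 : ZMod 3))).card by decide))
  have hvU : v ∈ eig0 R e ζ := (mem_eig0 R e).2 (by have := hv 0; simpa [ZMod.val_one] using this)
  set t₁ : Fin 3 → Fin 12 := fun j => e (1, ((j : ℕ) : ZMod 3))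
  have ht₁ : Off e t₁ := block_off e 1 (by decide)
  have hqv : qop R t₁ v = ζ • v := by
    have := hv 1
    rw [bl_eq, ZMod.val_one, pow_one] at this
    simpa [qop, t₁] using this
  set U := eig0 R e ζ
  set L : Submodule K U := LinearMap.ker (((qop R t₁ - 1) : Module.End K V).comp U.subtype)
  have hL : ∀ u : U, u ∈ L ↔ qop R t₁ (u : V) = u := fun u => by simp [L, sub_eq_zero]
  let ρU : sub9 (C := C) e →* Module.End K U :=
    { toFun := fun x => (R.ρ x).restrict (eig0_invariant R e x.2)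
      map_one' := LinearMap.ext fun v => Subtype.ext (by simp)
      map_mul' := fun x y => LinearMap.ext fun v => Subtype.ext (by simp) }
  have hLinv : ∀ (x : sub9 (C := C) e), ∀ u ∈ L, ρU x u ∈ L := by
    intro x u hu
    rw [hL] at hu ⊢
    obtain ⟨h01, h02, h12⟩ := Off.ne e ht₁
    have hoff : Off e fun j => (C.π (x : H) : Perm (Fin 12)) (t₁ j) :=
      ⟨(C.π (x : H) : Perm (Fin 12)).injective.comp ht₁.1, fun i s h => ht₁.2 i s
        ((C.π (x : H) : Perm (Fin 12)).injective ((sub9_fix e x.2 s).trans h))⟩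
    refine fix_any R e hp3 h27 hζ hoff ht₁ (ρU x u).2 ?_
    have h' := C.tl_conj h01 h02 h12 (x : H)
    rw [mul_inv_eq_iff_eq_mul] at h'
    show R.ρ (C.tl _ _ _) (R.ρ (x : H) (u : V)) = R.ρ (x : H) u
    rw [← Module.End.mul_apply, ← map_mul, ← h', map_mul, Module.End.mul_apply]
    exact congrArg _ hu
  let ρQ : sub9 (C := C) e →* Module.End K (U ⧸ L) :=
    { toFun := fun x => L.mapQ L (ρU x) fun u hu => hLinv x u hu
      map_one' := Submodule.linearMap_qext _ (LinearMap.ext fun u => by simp)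
      map_mul' := fun x y => Submodule.linearMap_qext _ (LinearMap.ext fun u => by simp) }
  have hne : (Submodule.Quotient.mk (⟨v, hvU⟩ : U) : U ⧸ L) ≠ 0 := by
    rw [Ne, Submodule.Quotient.mk_eq_zero, hL]
    intro h
    have : (ζ - 1) • v = 0 := by rw [sub_smul, one_smul, ← hqv, h, sub_self]
    exact hζ.ne_one (by norm_num) (sub_eq_zero.1 ((smul_eq_zero.1 this).resolve_right hv0))
  -- three generators
  set a := e (1, 0)
  set b := e (1, 1)
  set i := e (1, 2)
  set j := e (2, 0)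
  set k := e (2, 1)
  have hmem : ∀ c, c = i ∨ c = j ∨ c = k → C.tl a b c ∈ sub9 (C := C) e ∧ a ≠ c ∧ b ≠ c ∧
      Off e ![a, b, c] := by
    intro c hc
    have h : a ≠ c ∧ b ≠ c ∧ ∀ s, e (0, s) ≠ c := by
      rcases hc with rfl | rfl | rfl <;>
        exact ⟨e_ne e (by decide), e_ne e (by decide), fun s => e_ne e (by simp)⟩
    have hab : a ≠ b := e_ne' e (by decide)
    have h0 : ∀ s, e (0, s) ≠ a := fun s => e_ne e (by simp)
    have h1 : ∀ s, e (0, s) ≠ b := fun s => e_ne e (by simp)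
    refine ⟨tl_mem_sub9 e hab h.1 h.2.1 h0 h1 h.2.2, h.1, h.2.1,
      triple_inj hab h.1 h.2.1, fun l s => ?_⟩
    fin_cases l
    · exact h0 s
    · exact h1 s
    · exact h.2.2 s
  have hab : a ≠ b := e_ne' e (by decide)
  let X : ∀ c, (c = i ∨ c = j ∨ c = k) → sub9 (C := C) e := fun c hc => ⟨_, (hmem c hc).1⟩
  have h3 : ∀ c hc, ρQ (X c hc) * ρQ (X c hc) * ρQ (X c hc) = 1 := fun c hc => by
    rw [← map_mul, ← map_mul, ← map_one ρQ]
    refine congrArg ρQ (Subtype.ext ?_)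
    show C.tl a b c * C.tl a b c * C.tl a b c = 1
    rw [← pow_two, ← pow_succ, C.tl_cube hab (hmem c hc).2.1 (hmem c hc).2.2.1]
  have hq : ∀ c hc, ρQ (X c hc) * ρQ (X c hc) + ρQ (X c hc) + 1 = 0 := by
    intro c hc
    refine Submodule.linearMap_qext _ (LinearMap.ext fun u => ?_)
    set q := X c hc
    have hmemL : ρU q (ρU q u) + ρU q u + u ∈ L := by
      rw [hL]
      refine fix_any R e hp3 h27 hζ (hmem c hc).2.2.2 ht₁ (Subtype.coe_prop _) ?_
      have hc3 : R.ρ (q : H) (R.ρ (q : H) (R.ρ (q : H) (u : V))) = (u : V) := by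
        rw [← Module.End.mul_apply, ← Module.End.mul_apply, ← map_mul, ← map_mul]
        show R.ρ (C.tl a b c * C.tl a b c * C.tl a b c) _ = _
        rw [← pow_two, ← pow_succ, C.tl_cube hab (hmem c hc).2.1 (hmem c hc).2.2.1, map_one,
          Module.End.one_apply]
      show R.ρ (q : H) (R.ρ (q : H) (R.ρ (q : H) u) + R.ρ (q : H) u + u) = _
      rw [map_add, map_add, hc3]
      show (u : V) + _ + _ = R.ρ (q : H) (R.ρ (q : H) u) + R.ρ (q : H) u + u
      abel
    exact (Submodule.Quotient.mk_eq_zero L).2 hmemL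
  have hrel : ∀ c hc d hd, c ≠ d →
      ρQ (X c hc) * ρQ (X d hd) * ρQ (X c hc) * ρQ (X d hd) = 1 := by
    intro c hc d hd hcd
    rw [← map_mul, ← map_mul, ← map_mul, ← map_one ρQ]
    refine congrArg ρQ (Subtype.ext ?_)
    show C.tl a b c * C.tl a b d * C.tl a b c * C.tl a b d = 1
    have h : (C.tl a b c * C.tl a b d) ^ 2 ∈ C.π.ker := by
      rw [MonoidHom.mem_ker, map_pow, map_mul, C.π_tl hab (hmem c hc).2.1 (hmem c hc).2.2.1,
        C.π_tl hab (hmem d hd).2.1 (hmem d hd).2.2.1]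
      exact cyc_sq hab (hmem c hc).2.1 (hmem c hc).2.2.1 (hmem d hd).2.1 (hmem d hd).2.2.1 hcd
    rw [hker, Subgroup.mem_bot, pow_two, ← mul_assoc] at h
    exact h
  have h2K : (2 : K) ≠ 0 := by
    simpa using natCast_ne_zero_of_prime (K := K) (Fact.out : p.Prime) Nat.prime_two hp2
  have hij : i ≠ j := e_ne e (by simp)
  have hik : i ≠ k := e_ne e (by simp)
  have hjk : j ≠ k := e_ne' e (by decide)
  have hi : i = i ∨ i = j ∨ i = k := Or.inl rfl
  have hj : j = i ∨ j = j ∨ j = k := Or.inr (Or.inl rfl)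
  have hk : k = i ∨ k = j ∨ k = k := Or.inr (Or.inr rfl)
  set A := ρQ (X i hi)
  set B := ρQ (X j hj)
  set B' := ρQ (X k hk)
  have e1 : B = A * A :=
    quad_eq_sq h2K (h3 i hi) (h3 j hj) (hq i hi) (hq j hj) (hrel i hi j hj hij)
  have e2 : B' = A * A :=
    quad_eq_sq h2K (h3 i hi) (h3 k hk) (hq i hi) (hq k hk) (hrel i hi k hk hik)
  have e3 : B' = B * B :=
    quad_eq_sq h2K (h3 j hj) (h3 k hk) (hq j hj) (hq k hk) (hrel j hj k hk hjk)
  have hA3 : A * A * A = 1 := h3 i hi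
  have hA : A = 1 := by
    have h : A * A = A := by
      rw [← e2, e3, e1]
      calc A * A * (A * A) = A * A * A * A := by simp only [mul_assoc]
        _ = A := by rw [hA3, one_mul]
    calc A = A * A * A := by rw [h, h]
      _ = 1 := hA3
  have h := hq i hi
  change A * A + A + 1 = 0 at h
  rw [hA, one_mul] at h
  have h0 := LinearMap.congr_fun h (Submodule.Quotient.mk ⟨v, hvU⟩)
  simp only [LinearMap.add_apply, Module.End.one_apply, LinearMap.zero_apply] at h0
  have h3K := natCast_ne_zero_of_prime (K := K) (Fact.out : p.Prime) Nat.prime_three hp3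
  have h3' : ((3 : ℕ) : K) • (Submodule.Quotient.mk ⟨v, hvU⟩ : U ⧸ L) = 0 := by
    rw [show ((3 : ℕ) : K) = 1 + 1 + 1 by norm_num, add_smul, add_smul, one_smul]
    exact h0
  exact hne ((smul_eq_zero.1 h3').resolve_left h3K)

/-- Disjoint three-cycles have orthogonal images. -/
theorem disj_of_small {p : ℕ} [Fact p.Prime] [CharP K p] (hp2 : p ≠ 2) (hp3 : p ≠ 3)
    (h27 : finrank K V ≤ 27) : Disj R := by
  by_contra hd
  obtain ⟨e, he⟩ : ∃ e : Fin 4 × ZMod 3 ↪ Fin 12,
      (blockOp R e odd3 ⟨0, by omega⟩ - 1) * (blockOp R e odd3 ⟨1, by omega⟩ - 1) ≠ 0 := by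
    by_contra h
    push Not at h
    exact hd (disj_of_three R (by norm_num) (by norm_num) (by norm_num) odd3 h)
  have h3K := natCast_ne_zero_of_prime (K := K) (Fact.out : p.Prime) Nat.prime_three hp3
  obtain ⟨ζ, hζ⟩ := exists_root h3K
  obtain ⟨w, hw, h0, h1⟩ := exists_weight_both hζ h3K (blockOp R e odd3) (blockOp_comm R e odd3)
    (blockOp_pow R e odd3) he
  have hj := two_le_supp (by simp) h0 h1
  have hjk : (supp w).card ≤ 4 := (Finset.card_le_univ _).trans_eq (Fintype.card_fin 4)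
  have h4 : (supp w).card = 4 := by
    have := no_supp_two R e hp3 h27 hζ hw
    have := no_supp_three R e h27 hζ hw
    omega
  by_cases hker : C.π.ker = ⊥
  · exact false_of_four_bot R e hp2 hp3 h27 hker hζ hw h4
  · exact false_of_four_ker R e h27 hker hζ hw h4

end CfsgLib.AltE6
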