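import Cfsg.Agent.AltSection.Core
import Cfsg.Agent.AltE6.DisjBound
import Cfsg.Agent.AltE6.NonDisjMain
import Cfsg.Agent.AltE6.Index

/-!
The moved space of a long cycle in a small irreducible representation of the double cover or of the
alternating group of degree twelve.
-/

set_option autoImplicit false

namespace CfsgLib.AltE6

open Equiv Equiv.Perm Module CfsgLib.BPres CfsgLib.AltSection

/-- The two cases: seven-cycles and eleven-cycles. -/
def Case (ℓ : ℕ) (σ : alternatingGroup (Fin 12)) : Prop :=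
  (ℓ = 7 ∧ σ = s7) ∨ (ℓ = 11 ∧ σ = s11)

theorem s7_pow : s7 ^ 7 = 1 := by decide +kernel

theorem s11_pow : s11 ^ 11 = 1 := by decide +kernel

theorem s7_ne : s7 ≠ 1 := by decide +kernel

theorem s11_ne : s11 ≠ 1 := by decide +kernel

theorem Case.prime {ℓ : ℕ} {σ : alternatingGroup (Fin 12)} (h : Case ℓ σ) : ℓ.Prime := by
  rcases h with ⟨rfl, -⟩ | ⟨rfl, -⟩ <;> norm_num

theorem Case.orderOf_eq {ℓ : ℕ} {σ : alternatingGroup (Fin 12)} (h : Case ℓ σ) : orderOf σ = ℓ := by
  rcases h with ⟨rfl, rfl⟩ | ⟨rfl, rfl⟩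
  · haveI := Fact.mk (show Nat.Prime 7 by norm_num)
    exact orderOf_eq_prime s7_pow s7_ne
  · haveI := Fact.mk (show Nat.Prime 11 by norm_num)
    exact orderOf_eq_prime s11_pow s11_ne

variable {K V : Type} [Field K] [AddCommGroup V] [Module K V] [FiniteDimensional K V]

theorem rank_long (P : alternatingGroup (Fin 12) →* Module.End K V) {d : ℕ}
    (h : ∀ a b i : Fin 12, a ≠ b → a ≠ i → b ≠ i →
      finrank K (LinearMap.range (P (cyc a b i) - 1)) = 2 * d)
    {ℓ : ℕ} {σ : alternatingGroup (Fin 12)} (hc : Case ℓ σ) :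
    finrank K (LinearMap.range (P σ - 1)) ≤ (ℓ - 1) * d := by
  have c1 := h 0 1 2 (by decide) (by decide) (by decide)
  have c2 := h 2 3 4 (by decide) (by decide) (by decide)
  have c3 := h 4 5 6 (by decide) (by decide) (by decide)
  have c4 := h 6 7 8 (by decide) (by decide) (by decide)
  have c5 := h 8 9 10 (by decide) (by decide) (by decide)
  rcases hc with ⟨rfl, rfl⟩ | ⟨rfl, rfl⟩
  · have h1 := rank_mul_le (P (cyc (0 : Fin 12) 1 2) * P (cyc 2 3 4)) (P (cyc 4 5 6))
    have h2 := rank_mul_le (P (cyc (0 : Fin 12) 1 2)) (P (cyc 2 3 4))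
    rw [s7, map_mul, map_mul]
    omega
  · have h1 := rank_mul_le (P (cyc (0 : Fin 12) 1 2) * P (cyc 2 3 4) * P (cyc 4 5 6) * P (cyc 6 7 8))
      (P (cyc 8 9 10))
    have h2 := rank_mul_le (P (cyc (0 : Fin 12) 1 2) * P (cyc 2 3 4) * P (cyc 4 5 6)) (P (cyc 6 7 8))
    have h3 := rank_mul_le (P (cyc (0 : Fin 12) 1 2) * P (cyc 2 3 4)) (P (cyc 4 5 6))
    have h4 := rank_mul_le (P (cyc (0 : Fin 12) 1 2)) (P (cyc 2 3 4))
    rw [s11, map_mul, map_mul, map_mul, map_mul]
    omega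

variable {H : Type} [Group H] [Finite H] [IsAlgClosed K] {C : Cover 12 H} (R : Rep C K V)

include R in
/-- The irreducible bound with scalar kernel. -/
theorem core12 {p : ℕ} [Fact p.Prime] [CharP K p] (hp2 : p ≠ 2) (hp3 : p ≠ 3)
    (h27 : finrank K V ≤ 27) {ℓ : ℕ} {σ : alternatingGroup (Fin 12)} (hc : Case ℓ σ) {x : H}
    (hx : C.π x = σ) :
    ∃ M, 1 ≤ M ∧ 10 * M ≤ finrank K V ∧
      finrank K (LinearMap.range (R.ρ x - 1)) ≤ (ℓ - 1) * M := by
  have hd := disj_of_small R hp2 hp3 h27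
  have hker := ker_eq_bot_of_disj R (by norm_num) hd
  let φ : H ≃* alternatingGroup (Fin 12) :=
    MulEquiv.ofBijective C.π ⟨(MonoidHom.ker_eq_bot_iff _).1 hker, C.surj⟩
  let P : alternatingGroup (Fin 12) →* Module.End K V := R.ρ.comp φ.symm.toMonoidHom
  have hP : ∀ a b i : Fin 12, a ≠ b → a ≠ i → b ≠ i → P (cyc a b i) = R.ρ (C.tl a b i) := by
    intro a b i hab hai hbi
    show R.ρ (φ.symm (cyc a b i)) = _
    congr 1
    rw [MulEquiv.symm_apply_eq]
    exact (C.π_tl hab hai hbi).symm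
  obtain ⟨ζ, hζ⟩ := exists_root (K := K)
    (natCast_ne_zero_of_prime (K := K) (Fact.out : p.Prime) Nat.prime_three hp3)
  obtain ⟨d, hd1, hd10, hd2⟩ := disj_bound P (R.injective.comp φ.symm.injective)
    (fun W hW => R.irred W fun h v hv => by
      have := hW (φ h) v hv
      rwa [show P (φ h) = R.ρ h by simp [P]] at this)
    (fun x hx => by
      rw [hP _ _ _ (hx.ne (by decide)) (hx.ne (by decide)) (hx.ne (by decide)),
        hP _ _ _ (hx.ne (by decide)) (hx.ne (by decide)) (hx.ne (by decide))]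
      exact hd x hx) hζ
  refine ⟨d, hd1, hd10, ?_⟩
  have e : R.ρ x = P σ := by
    show R.ρ x = R.ρ (φ.symm σ)
    rw [← hx]
    exact congrArg R.ρ (φ.symm_apply_apply x).symm
  rw [e]
  exact rank_long P hd2 hc

end CfsgLib.AltE6
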