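import Cfsg.Agent.E6Cubic.Transport
import Cfsg.Agent.Chev.ToralChev
import Cfsg.Agent.Chev.GoodAll
import Cfsg.Agent.S1054
import Cfsg.Agent.S1063
import Cfsg.Agent.S1077
import Cfsg.Agent.ToralSection.Lift

/-!
The isometry group of the cubic form as a covering of the group of type E₆, and its diagonal torus.
-/

set_option autoImplicit false
set_option linter.style.haveILetI false

namespace CfsgLib.AltE6

open Cfsg.Lie E6Cubic

variable (K : Type) [Field K]

/-- The covering group on twenty-seven coordinates. -/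
abbrev Xg : Subgroup ((Fin 27 → K) ≃ₗ[K] (Fin 27 → K)) := (E6Cubic.rep (F := K)).range

variable {K}

theorem rep_noncomm : E6Cubic.rep (chevE6.stGen K 0 (1 : K)) * E6Cubic.rep (chevE6.stGen K 71 (1 : K)) ≠
    E6Cubic.rep (chevE6.stGen K 71 (1 : K)) * E6Cubic.rep (chevE6.stGen K 0 (1 : K)) := by
  intro h'
  rw [rep_stGen (by norm_num), rep_stGen (by norm_num)] at h'
  have h'' := congrFun (LinearEquiv.congr_fun h' (bv 6)) 6
  have n0 : chevE6.neg 0 = 71 ∧ chevE6.neg 71 = 0 ∧ tgtB 0 6 = true ∧ tgtB 71 6 = false := by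
    decide +kernel
  have hA := op_op_tgt (F := K) (r := 0) (by norm_num) (bv 6) 6
  have hB := op_op_tgt (F := K) (r := 71) (by norm_num) (bv 6) 6
  rw [n0.1, n0.2.2.1, if_pos rfl, bv_same] at hA
  rw [n0.2.1, n0.2.2.2, if_neg Bool.false_ne_true] at hB
  simp [LinearEquiv.mul_apply, map_add, Pi.add_apply, hA, hB] at h''
  all_goals
    have := h''
    simp [add_comm, add_left_comm, add_assoc] at this

theorem exists_cover : ∃ α : Xg K →* ↥(chevE6.group K), Function.Surjective α ∧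
    ∀ z, α z = 1 → ∀ g, g * z = z * g := by
  obtain ⟨θ, hsurj, hker, -⟩ := Cfsg.Agent.S1077.result (K := K) chevE6 (by simp)
  obtain ⟨hsimple, -⟩ := Cfsg.Agent.S1054.result (F := K) chevE6 (by simp)
  set ρ := E6Cubic.rep (F := K) with hρ
  have hle : ρ.ker ≤ θ.ker := by
    have hn : (ρ.ker.map θ).Normal := Subgroup.Normal.map inferInstance θ hsurj
    rcases hsimple.eq_bot_or_eq_top_of_normal _ hn with h | h
    · exact (Subgroup.map_eq_bot_iff _).1 h
    · exfalso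
      refine rep_noncomm (K := K) ?_
      obtain ⟨k, hk, hks⟩ : θ (chevE6.stGen K 0 1) ∈ ρ.ker.map θ := h ▸ Subgroup.mem_top _
      have hc : k⁻¹ * chevE6.stGen K 0 1 ∈ Subgroup.center (chevE6.SteinbergGroup K) := by
        rw [← hker, MonoidHom.mem_ker, map_mul, map_inv, hks, inv_mul_cancel]
      have h1 : ρ (k⁻¹ * chevE6.stGen K 0 1) = ρ (chevE6.stGen K 0 1) := by
        rw [map_mul, map_inv, MonoidHom.mem_ker.1 hk, inv_one, one_mul]
      rw [← hρ, ← h1, ← map_mul, ← map_mul]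
      exact congrArg ρ (Subgroup.mem_center_iff.1 hc _).symm
  let e := QuotientGroup.quotientKerEquivRange ρ
  let α : Xg K →* ↥(chevE6.group K) := (QuotientGroup.lift ρ.ker θ hle).comp e.symm.toMonoidHom
  have hα : ∀ s, α ⟨ρ s, s, rfl⟩ = θ s := fun s => by
    show QuotientGroup.lift ρ.ker θ hle (e.symm _) = _
    rw [show e.symm ⟨ρ s, s, rfl⟩ = (s : chevE6.SteinbergGroup K ⧸ ρ.ker) from
      e.symm_apply_eq.2 rfl]
    rfl
  refine ⟨α, fun g => ?_, ?_⟩
  · obtain ⟨s, rfl⟩ := hsurj g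
    exact ⟨_, hα s⟩
  · rintro ⟨-, s, rfl⟩ hz ⟨-, t, rfl⟩
    rw [hα, ← MonoidHom.mem_ker, hker, Subgroup.mem_center_iff] at hz
    exact Subtype.ext (by
      show ρ t * ρ s = ρ s * ρ t
      rw [← map_mul, ← map_mul, hz t])

theorem chi_one (r : ℕ) (k : Fin 27) : chi r (1 : K) k = 1 := by
  simp [chi]

theorem chi_mul (r : ℕ) (t u : K) (k : Fin 27) : chi r (t * u) k = chi r t k * chi r u k := by
  simp only [chi]
  split_ifs
  · rfl
  · rw [mul_inv]
  · rw [one_mul]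

/-- The diagonal elements. -/
def diagSub (K : Type) [Field K] : Subgroup (Xg K) where
  carrier := {g | ∃ l, IsDiag (g : (Fin 27 → K) ≃ₗ[K] (Fin 27 → K)) l}
  one_mem' := ⟨fun _ => 1, fun v k => by simp [LinearEquiv.coe_one]⟩
  mul_mem' := by
    rintro g g' ⟨l, hl⟩ ⟨l', hl'⟩
    exact ⟨fun k => l k * l' k, fun v k => by
      rw [Subgroup.coe_mul, LinearEquiv.mul_apply, hl, hl', mul_assoc]⟩
  inv_mem' := by
    rintro g ⟨l, hl⟩
    refine ⟨fun k => (l k)⁻¹, fun v k => ?_⟩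
    have h := hl ((g : (Fin 27 → K) ≃ₗ[K] (Fin 27 → K))⁻¹ v) k
    rw [show (g : (Fin 27 → K) ≃ₗ[K] (Fin 27 → K)) ((g : (Fin 27 → K) ≃ₗ[K] (Fin 27 → K))⁻¹ v) = v
      from (g : (Fin 27 → K) ≃ₗ[K] (Fin 27 → K)).apply_symm_apply v] at h
    rw [Subgroup.coe_inv, h, inv_mul_cancel_left₀ (hl.ne_zero k)]

theorem diag_comm : ∀ x ∈ diagSub K, ∀ y ∈ diagSub K, Commute x y := by
  rintro x ⟨l, hl⟩ y ⟨l', hl'⟩
  refine Subtype.ext (LinearEquiv.ext fun v => funext fun k => ?_)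
  simp only [Subgroup.coe_mul, LinearEquiv.mul_apply, hl _ k, hl' _ k]
  ring

/-- The roots of the torus parametrisation. -/
def trs : Fin 6 → ℕ := ![71, 15, 29, 22, 36, 37]

theorem trs_lt (i : Fin 6) : trs i < 72 := by fin_cases i <;> simp [trs]

/-- The diagonal of a parametrised torus element. -/
def tdiag (a : Fin 6 → Kˣ) (k : Fin 27) : K :=
  chi 71 (a 0 : K) k * (chi 15 (a 1 : K) k * (chi 29 (a 2 : K) k * (chi 22 (a 3 : K) k *
    (chi 36 (a 4 : K) k * (chi 37 (a 5 : K) k * 1)))))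

theorem exists_torus_elt (a : Fin 6 → Kˣ) :
    ∃ g : Xg K, IsDiag (g : (Fin 27 → K) ≃ₗ[K] (Fin 27 → K)) (tdiag a) := by
  have h1 : IsDiag (1 : (Fin 27 → K) ≃ₗ[K] (Fin 27 → K)) fun _ => 1 :=
    fun v k => by simp [LinearEquiv.coe_one]
  have h := (((((h1.torus (r := 37) (by norm_num) (a 5).ne_zero).torus (r := 36) (by norm_num)
    (a 4).ne_zero).torus (r := 22) (by norm_num) (a 3).ne_zero).torus (r := 29) (by norm_num)
    (a 2).ne_zero).torus (r := 15) (by norm_num) (a 1).ne_zero).torus (r := 71) (by norm_num)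
    (a 0).ne_zero
  exact ⟨⟨_, mul_mem (hr'_mem (by norm_num) _) (mul_mem (hr'_mem (by norm_num) _) (mul_mem
    (hr'_mem (by norm_num) _) (mul_mem (hr'_mem (by norm_num) _) (mul_mem (hr'_mem (by norm_num) _)
      (mul_mem (hr'_mem (by norm_num) _) (one_mem _))))))⟩, h⟩

theorem diag_ext {g g' : Xg K} {l l' : Fin 27 → K}
    (h : IsDiag (g : (Fin 27 → K) ≃ₗ[K] (Fin 27 → K)) l)
    (h' : IsDiag (g' : (Fin 27 → K) ≃ₗ[K] (Fin 27 → K)) l') (e : ∀ k, l k = l' k) : g = g' :=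
  Subtype.ext (LinearEquiv.ext fun v => funext fun k => by rw [h, h', e])

theorem tdiag_injective {a : Fin 6 → Kˣ} (h : ∀ k, tdiag a k = 1) : a = 1 := by
  obtain ⟨⟨A0, A3, A3'⟩, ⟨B0, B0', B3, B3'⟩, ⟨C0, C0', C3, C3', C1, C1'⟩,
    ⟨D0, D0', D3, D3', D1, D1', D2, D2'⟩, ⟨E0, E0', E3, E3', E1, E1', E2, E2', E4, E4'⟩,
    ⟨F0, F0', F3, F3', F1, F1', F2, F2', F4, F4', F5, F5'⟩⟩ := torus_ok
  have h1 : a 1 = 1 := Units.ext (by
    simpa [tdiag, chi, A3, A3', B3, B3', C3, C3', D3, D3', E3, E3', F3, F3'] using h 3)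
  have h0 : a 0 = 1 := Units.ext (by
    simpa [tdiag, chi, h1, A0, B0, B0', C0, C0', D0, D0', E0, E0', F0, F0'] using h 0)
  have h2 : a 2 = 1 := Units.ext (by
    simpa [tdiag, chi, h0, h1, C1, C1', D1, D1', E1, E1', F1, F1'] using h 1)
  have h3 : a 3 = 1 := Units.ext (by
    simpa [tdiag, chi, h0, h1, h2, D2, D2', E2, E2', F2, F2'] using h 2)
  have h4 : a 4 = 1 := Units.ext (by
    simpa [tdiag, chi, h0, h1, h2, h3, E4, E4', F4, F4'] using h 19)
  have h5 : a 5 = 1 := Units.ext (by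
    simpa [tdiag, chi, h0, h1, h2, h3, h4, F5, F5'] using h 22)
  funext i
  fin_cases i
  exacts [h0, h1, h2, h3, h4, h5]

theorem torus_dvd [Fintype K] : (Fintype.card K - 1) ^ 6 ∣ Nat.card (diagSub K) := by
  classical
  choose ψ hψ using exists_torus_elt (K := K)
  let Ψ : (Fin 6 → Kˣ) →* diagSub K :=
    MonoidHom.mk' (fun a => ⟨ψ a, _, hψ a⟩) fun a b => Subtype.ext
      (diag_ext (hψ (a * b)) (g' := ψ a * ψ b) (l' := fun k => tdiag a k * tdiag b k)
        (fun v k => by rw [Subgroup.coe_mul, LinearEquiv.mul_apply, hψ a, hψ b, mul_assoc])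
        fun k => by simp only [tdiag, Pi.mul_apply, Units.val_mul, chi_mul]; ring)
  have hinj : Function.Injective Ψ := by
    rw [← MonoidHom.ker_eq_bot_iff, Subgroup.eq_bot_iff_forall]
    intro a ha
    refine tdiag_injective fun k => ?_
    have e : ψ a = 1 := congrArg Subtype.val (MonoidHom.mem_ker.1 ha)
    have h := hψ a (bv k) k
    rw [e, bv_same, mul_one] at h
    simpa [LinearEquiv.coe_one, bv_same] using h.symm
  have h := Subgroup.card_subgroup_dvd_card Ψ.range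
  rwa [← Nat.card_congr (MonoidHom.ofInjective hinj).toEquiv, Nat.card_pi, Finset.prod_const,
    Finset.card_univ, Fintype.card_fin, Nat.card_units, Nat.card_eq_fintype_card] at h

/-- A step along a root vector. -/
def adjB (a b : Fin 27) : Bool :=
  (List.range 72).any fun r => (ents r).any fun e => decide (e.1 = a) && decide (e.2.1 = b)

set_option maxRecDepth 20000 in
theorem connected_ok : ∀ k : Fin 27, k = 0 ∨ adjB 0 k = true ∨
    ∃ m, adjB 0 m = true ∧ adjB m k = true := by decide +kernel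

set_option maxRecDepth 20000 in
theorem separated_ok : ∀ k k' : Fin 27, k ≠ k' →
    ∃ r : Fin 72, (tgtB r k, srcB r k) ≠ (tgtB r k', srcB r k') := by decide +kernel

theorem central_cube [Fintype K] {t : K} (ht0 : t ≠ 0) (ht1 : t ≠ 1) (ht2 : t * t ≠ 1) (z : Xg K)
    (hz : ∀ g, g * z = z * g) : z ^ 3 = 1 := by
  classical
  set Z : (Fin 27 → K) ≃ₗ[K] (Fin 27 → K) := z.1
  have hcomm : ∀ g ∈ Xg K, ∀ v, g (Z v) = Z (g v) := fun g hg v =>
    LinearEquiv.congr_fun (congrArg Subtype.val (hz ⟨g, hg⟩)) v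
  have hoff : ∀ k k', k' ≠ k → Z (bv k) k' = 0 := by
    intro k k' hne
    obtain ⟨r, hr⟩ := separated_ok k' k hne
    have h := congrFun (hcomm _ (hr'_mem r.isLt t) (bv k)) k'
    have hb : hr' (r : ℕ) t (bv k) = chi r t k • bv k := funext fun j => by
      rw [hr'_diag r.isLt ht0, Pi.smul_apply, smul_eq_mul]
      by_cases hj : j = k
      · rw [hj]
      · rw [bv_ne hj, mul_zero, mul_zero]
    rw [hr'_diag r.isLt ht0, hb, map_smul, Pi.smul_apply, smul_eq_mul] at h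
    by_contra h0
    have he := mul_right_cancel₀ h0 h
    have hd1 := disj_ok r r.isLt k'
    have hd2 := disj_ok r r.isLt k
    have hi : t⁻¹ ≠ 1 := fun e => ht1 (inv_eq_one.1 e)
    have hti : t ≠ t⁻¹ := fun e => ht2 (by nth_rw 2 [e]; exact mul_inv_cancel₀ ht0)
    revert he hr hd1 hd2
    simp only [chi]
    cases tgtB (r : ℕ) k' <;> cases srcB (r : ℕ) k' <;> cases tgtB (r : ℕ) k <;>
      cases srcB (r : ℕ) k <;> simp [ht1, hi, hti, Ne.symm ht1, Ne.symm hi, Ne.symm hti]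
  set l : Fin 27 → K := fun k => Z (bv k) k
  have hdiag : IsDiag Z l := fun v k => by
    conv_lhs => rw [show v = ∑ j, v j • bv j from funext fun i => by
      simp [Finset.sum_apply, bv, Pi.single_apply]]
    rw [map_sum, Finset.sum_apply, Finset.sum_eq_single k (fun j _ hj => by
      rw [map_smul, Pi.smul_apply, hoff j k hj.symm, smul_zero]) (by simp), map_smul,
      Pi.smul_apply, smul_eq_mul, mul_comm]
  have hedge : ∀ a b, adjB a b = true → l b = l a := by
    intro a b hab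
    obtain ⟨r, hr, hab⟩ := List.any_eq_true.1 hab
    obtain ⟨e, he, hab⟩ := List.any_eq_true.1 hab
    simp only [Bool.and_eq_true, decide_eq_true_eq] at hab
    obtain ⟨rfl, rfl⟩ := hab
    have hr' : r < 72 := List.mem_range.1 hr
    have hne : e.2.1 ≠ e.1 := fun h => disj_ok r hr' e.1 ⟨by
      simp only [tgtB, List.any_eq_true, decide_eq_true_eq]; exact ⟨e, he, h⟩, by
      simp only [srcB, List.any_eq_true, decide_eq_true_eq]; exact ⟨e, he, rfl⟩⟩
    have h := congrFun (hcomm _ (xr_mem hr' (1 : K)) (bv e.1)) e.2.1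
    rw [hdiag] at h
    simp only [xr_apply, one_smul, Pi.add_apply, op_entry hr' he, hdiag _ e.1, hdiag _ e.2.1,
      bv_same, bv_ne hne, mul_zero, zero_add, mul_one] at h
    have hs : ((e.2.2 : ℤ) : K) ≠ 0 := fun h0 => by
      have := congrArg (fun k : ℤ => (k : K)) (ents_ok r hr' e he).2.1
      simp [h0] at this
    exact mul_right_cancel₀ hs (h.symm.trans (mul_comm _ _))
  have hconst : ∀ k, l k = l 0 := by
    intro k
    rcases connected_ok k with rfl | h | ⟨m, h1, h2⟩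
    · rfl
    · exact hedge _ _ h
    · rw [hedge _ _ h2, hedge _ _ h1]
  have hc : l 0 * l 0 * l 0 = 1 := by
    obtain ⟨t', ht'⟩ : ∃ t', t' ∈ tri := ⟨(0, 4, 8, 1), by decide⟩
    have := hdiag.mon (range_rep_le z.2) ht'
    rwa [hconst t'.1, hconst t'.2.1, hconst t'.2.2.1] at this
  refine Subtype.ext (LinearEquiv.ext fun v => funext fun k => ?_)
  rw [pow_succ, pow_two, Subgroup.coe_mul, Subgroup.coe_mul, LinearEquiv.mul_apply,
    LinearEquiv.mul_apply, hdiag, hdiag, hdiag, hconst k, ← mul_assoc, ← mul_assoc, hc, one_mul]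
  rfl

instance finite_Xg [Fintype K] : Finite (Xg K) :=
  haveI : Finite ((Fin 27 → K) ≃ₗ[K] (Fin 27 → K)) :=
    Finite.of_injective (fun g => (g : (Fin 27 → K) → (Fin 27 → K))) DFunLike.coe_injective
  inferInstance

/-- The cofactor of the torus in the order of the group. -/
def cofactorE6 {R : Type*} [CommSemiring R] (q : R) : R :=
  q ^ 36 * ((q + 1) * (q ^ 4 + q ^ 3 + q ^ 2 + q + 1) * (q ^ 5 + q ^ 4 + q ^ 3 + q ^ 2 + q + 1) *
    (q ^ 7 + q ^ 6 + q ^ 5 + q ^ 4 + q ^ 3 + q ^ 2 + q + 1) *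
    (q ^ 8 + q ^ 7 + q ^ 6 + q ^ 5 + q ^ 4 + q ^ 3 + q ^ 2 + q + 1) *
    (q ^ 11 + q ^ 10 + q ^ 9 + q ^ 8 + q ^ 7 + q ^ 6 + q ^ 5 + q ^ 4 + q ^ 3 + q ^ 2 + q + 1))

theorem card_chev [Fintype K] : Nat.gcd 3 (Fintype.card K - 1) * Nat.card (chevE6.group K) =
    cofactorE6 (Fintype.card K) * (Fintype.card K - 1) ^ 6 := by
  rw [Cfsg.Agent.S1063.result rfl, cofactorE6]
  have h1 : 1 ≤ Fintype.card K := Fintype.card_pos
  zify [h1, Nat.one_le_pow 2 _ h1, Nat.one_le_pow 5 _ h1, Nat.one_le_pow 6 _ h1,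
    Nat.one_le_pow 8 _ h1, Nat.one_le_pow 9 _ h1, Nat.one_le_pow 12 _ h1]
  ring

theorem cof_seven : cofactorE6 (1 : ZMod 7) ≠ 0 := by unfold cofactorE6; decide

theorem cof_eleven : cofactorE6 (1 : ZMod 11) ≠ 0 := by unfold cofactorE6; decide

/-- The diagonal subgroup carries the whole part at `ℓ`. -/
theorem diag_full [Fintype K] {ℓ : ℕ} [Fact ℓ.Prime] (hℓ3 : 3 < ℓ)
    (hcof : cofactorE6 (1 : ZMod ℓ) ≠ 0) (hq : ((Fintype.card K : ℕ) : ZMod ℓ) = 1) {t : K}
    (ht0 : t ≠ 0) (ht1 : t ≠ 1) (ht2 : t * t ≠ 1) :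
    (Nat.card (Xg K)).factorization ℓ ≤ (Nat.card (diagSub K)).factorization ℓ := by
  have hℓ : ℓ.Prime := Fact.out
  obtain ⟨α, hα, hc⟩ := exists_cover (K := K)
  have hk : ¬ ℓ ∣ Nat.card α.ker := by
    intro hd
    obtain ⟨z, hz⟩ := exists_prime_orderOf_dvd_card' ℓ hd
    have h3 : (z : Xg K) ^ 3 = 1 :=
      central_cube ht0 ht1 ht2 z (hc z (MonoidHom.mem_ker.1 z.2))
    have := Nat.le_of_dvd (by norm_num) (orderOf_dvd_of_pow_eq_one h3)
    rw [Subgroup.orderOf_coe, hz] at this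
    omega
  have hmul : Nat.card (Xg K) = Nat.card α.ker * Nat.card (chevE6.group K) := by
    rw [← α.ker.card_mul_index, Subgroup.index_ker, MonoidHom.range_eq_top.2 hα, Subgroup.card_top]
  have hG : Nat.card (chevE6.group K) ≠ 0 := fun h => by
    have hX : Nat.card (Xg K) ≠ 0 := Nat.card_pos.ne'
    rw [hmul, h, mul_zero] at hX
    exact hX rfl
  have hgcd : ¬ ℓ ∣ Nat.gcd 3 (Fintype.card K - 1) := fun h => by
    have := Nat.le_of_dvd (by norm_num) (h.trans (Nat.gcd_dvd_left _ _))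
    omega
  have hcof' : ¬ ℓ ∣ cofactorE6 (Fintype.card K) := fun hd => hcof (by
    have e := (ZMod.natCast_eq_zero_iff _ _).mpr hd
    simp only [cofactorE6, Nat.cast_mul, Nat.cast_add, Nat.cast_pow, Nat.cast_one, hq] at e
    exact e)
  have hq1 : (Fintype.card K - 1) ^ 6 ≠ 0 :=
    pow_ne_zero _ (by have := Fintype.one_lt_card (α := K); omega)
  rw [hmul, Chev.factorization_mul_of_not_dvd hk hG, ← Chev.factorization_mul_of_not_dvd hgcd hG,
    card_chev, Chev.factorization_mul_of_not_dvd hcof' hq1]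
  exact (Nat.factorization_le_iff_dvd hq1 Nat.card_pos.ne').2 torus_dvd ℓ

end CfsgLib.AltE6
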