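import Mathlib

/-!
Kernel checks of the weight multiplicities.
-/

set_option autoImplicit false

namespace CfsgLib.AltE6

/-- Indicator. -/
def ind (b : Bool) : ℕ := bif b then 1 else 0

/-- Twice the number of weights equal to `a`, from the coordinates as natural numbers. -/
def cn (ℓ : ℕ) (l : List ℕ) (h a : ℕ) : ℕ :=
  (2 * (l.map fun x => ind (Nat.beq ((x + h) % ℓ) a)).sum +
    2 * (l.map fun x => ind (Nat.beq ((a + h) % ℓ) x)).sum +
    (l.map fun x => (l.map fun y => ind (Nat.beq ((x + y + a) % ℓ) 0)).sum).sum) -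
  (l.map fun x => ind (Nat.beq ((x + x + a) % ℓ) 0)).sum

/-- The counts are invariant under multiplication. -/
def invB (ℓ k : ℕ) (l : List ℕ) (h : ℕ) : Bool :=
  (List.range ℓ).all fun a => Nat.beq (cn ℓ l h a) (cn ℓ l h (k * a % ℓ))

/-- Everything vanishes. -/
def zeroB (l : List ℕ) (h : ℕ) : Bool := l.all (fun x => Nat.beq x 0) && Nat.beq h 0

/-- Nondecreasing lists. -/
def tups (ℓ : ℕ) : ℕ → ℕ → List (List ℕ)
  | 0, _ => [[]]
  | n + 1, lo => ((List.range ℓ).filter fun x => Nat.ble lo x).flatMap fun x =>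
      (tups ℓ n x).map (x :: ·)

/-- All coordinates. -/
def cases (ℓ : ℕ) : List (List ℕ) := (tups ℓ 6 0).filter fun l => Nat.beq (l.sum % ℓ) 0

theorem mem_tups {ℓ : ℕ} : ∀ (l : List ℕ) (lo : ℕ), (∀ x ∈ l, lo ≤ x ∧ x < ℓ) →
    l.Pairwise (· ≤ ·) → l ∈ tups ℓ l.length lo
  | [], _, _, _ => List.mem_cons_self
  | x :: l, lo, hb, hp => by
    obtain ⟨hp1, hp2⟩ := List.pairwise_cons.1 hp
    refine List.mem_flatMap.2 ⟨x, List.mem_filter.2 ⟨List.mem_range.2 (hb x List.mem_cons_self).2,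
      by simpa using (hb x List.mem_cons_self).1⟩, List.mem_map.2 ⟨l, ?_, rfl⟩⟩
    exact mem_tups l x (fun y hy => ⟨hp1 y hy, (hb y (List.mem_cons_of_mem _ hy)).2⟩) hp2

set_option maxRecDepth 100000 in
theorem check_eleven : ((cases 11).all fun l => (List.range 11).all fun h =>
    zeroB l h || ((!(invB 11 3 l h) || Nat.ble (cn 11 l h 0) 12) && !(invB 11 2 l h))) = true := by
  decide +kernel

set_option maxRecDepth 100000 in
theorem check_seven : ((cases 7).all fun l => (List.range 7).all fun h =>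
    zeroB l h || !(invB 7 3 l h) || Nat.ble (cn 7 l h 0) 28) = true := by
  decide +kernel

end CfsgLib.AltE6
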