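import Cfsg.Agent.E6Cubic.Data
import Cfsg.Agent.AltE6.WeightCheck

/-!
Weights of elements of order seven and eleven of a torus on the twenty-seven points.
-/

set_option autoImplicit false

namespace CfsgLib.AltE6

open E6Cubic

theorem sum27 {M : Type*} [AddCommMonoid M] (F : Fin 27 → M) :
    ∑ k, F k = (∑ i, F (pa i)) + (∑ i, F (pb i)) + (pc.map fun x => F x.2.2).sum := by
  simp [Fin.sum_univ_succ, pc, pa, pb]
  abel

/-- Three points form a monomial. -/
def inTri (a b c : Fin 27) : Bool :=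
  tri.any fun t => [(a, b, c), (a, c, b), (b, a, c), (b, c, a), (c, a, b), (c, b, a)].contains
    (t.1, t.2.1, t.2.2.1)

theorem pc_tri : (∀ x ∈ pc, inTri (pa x.1) (pb x.2.1) x.2.2 = true ∧
    inTri (pa x.2.1) (pb x.1) x.2.2 = true) ∧ inTri 8 15 20 = true ∧
    (∀ j : Fin 6, j ≠ 0 → ∃ x ∈ pc, x.1 = 0 ∧ x.2.1 = j) := by decide +kernel

variable {ℓ : ℕ} [Fact ℓ.Prime]

theorem inTri_sum {w : Fin 27 → ZMod ℓ} (hw : ∀ t ∈ tri, w t.1 + w t.2.1 + w t.2.2.1 = 0)
    {a b c : Fin 27} (h : inTri a b c = true) : w a + w b + w c = 0 := by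
  obtain ⟨t, ht, h⟩ := List.any_eq_true.1 h
  have := hw t ht
  simp only [List.contains_iff_mem, List.mem_cons, List.not_mem_nil, or_false, Prod.mk.injEq] at h
  rcases h with ⟨e1, e2, e3⟩ | ⟨e1, e2, e3⟩ | ⟨e1, e2, e3⟩ | ⟨e1, e2, e3⟩ | ⟨e1, e2, e3⟩ |
    ⟨e1, e2, e3⟩ <;> rw [e1, e2, e3] at this <;> linear_combination this

/-- Coordinates of a weight function. -/
theorem exists_coord (hℓ : (2 : ZMod ℓ) ≠ 0) {w : Fin 27 → ZMod ℓ}
    (hw : ∀ t ∈ tri, w t.1 + w t.2.1 + w t.2.2.1 = 0) :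
    ∃ (ε : Fin 6 → ZMod ℓ) (h : ZMod ℓ), (∑ i, ε i) = 0 ∧
      (∀ i, w (pa i) = ε i + h) ∧ (∀ i, w (pb i) = ε i - h) ∧
      ∀ x ∈ pc, w x.2.2 = -(ε x.1 + ε x.2.1) := by
  set h := (w (pa 0) - w (pb 0)) / 2 with hh
  have h2 : h * 2 = w (pa 0) - w (pb 0) := div_mul_cancel₀ _ hℓ
  have hd : ∀ i, w (pa i) - w (pb i) = h * 2 := by
    intro i
    by_cases hi : i = 0
    · rw [hi, h2]
    obtain ⟨x, hx, e1, e2⟩ := pc_tri.2.2 i hi
    obtain ⟨a, b⟩ := pc_tri.1 x hx
    have a' := inTri_sum hw a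
    have b' := inTri_sum hw b
    rw [e1, e2] at a' b'
    rw [h2]
    linear_combination b' - a'
  have hb : ∀ i, w (pb i) = w (pa i) - h - h := fun i => by linear_combination -(hd i)
  have hc : ∀ x ∈ pc, w x.2.2 = -((w (pa x.1) - h) + (w (pa x.2.1) - h)) := fun x hx => by
    have a := inTri_sum hw (pc_tri.1 x hx).1
    rw [hb] at a
    linear_combination a
  refine ⟨fun i => w (pa i) - h, h, ?_, fun i => (sub_add_cancel _ _).symm, hb, hc⟩
  have e := inTri_sum hw pc_tri.2.1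
  have c8 := hc (0, 1, 8) (by decide)
  have c15 := hc (2, 3, 15) (by decide)
  have c20 := hc (4, 5, 20) (by decide)
  rw [Fin.sum_univ_six]
  simp only at c8 c15 c20
  linear_combination -e + c8 + c15 + c20

theorem ind_beq {m : ℕ} {a : ZMod ℓ} :
    ind (Nat.beq (m % ℓ) a.val) = if (m : ZMod ℓ) = a then 1 else 0 := by
  by_cases h : (m : ZMod ℓ) = a
  · subst h
    rw [if_pos rfl, ZMod.val_natCast, show Nat.beq (m % ℓ) (m % ℓ) = true from Nat.beq_refl _]
    rfl
  · rw [if_neg h]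
    cases hb : Nat.beq (m % ℓ) a.val with
    | false => rfl
    | true =>
      exact absurd (ZMod.val_injective ℓ (by rw [ZMod.val_natCast]; exact Nat.eq_of_beq_eq_true hb)) h

theorem exists_list (hℓ : (2 : ZMod ℓ) ≠ 0) {w : Fin 27 → ZMod ℓ}
    (hw : ∀ t ∈ tri, w t.1 + w t.2.1 + w t.2.2.1 = 0) :
    ∃ l ∈ cases ℓ, ∃ h < ℓ, (zeroB l h = true → w = 0) ∧
      ∀ a : ZMod ℓ, cn ℓ l h a.val = 2 * (Finset.univ.filter fun k => w k = a).card := by
  classical
  obtain ⟨ε, h, hsum, ha, hb, hc⟩ := exists_coord hℓ hw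
  set τ := Tuple.sort fun i => (ε i).val
  have hmono := Tuple.monotone_sort fun i => (ε i).val
  set l := List.ofFn fun i => (ε (τ i)).val with hl
  refine ⟨l, List.mem_filter.2 ⟨?_, ?_⟩, h.val, h.val_lt, fun hz => ?_, fun a => ?_⟩
  · have := mem_tups l 0 (ℓ := ℓ) (fun x hx => by
      obtain ⟨i, rfl⟩ := List.mem_ofFn.1 hx
      exact ⟨Nat.zero_le _, ZMod.val_lt _⟩) (List.pairwise_ofFn.2 fun i j hij => hmono hij.le)
    simpa [hl] using this
  · rw [Nat.beq_eq, ← Nat.dvd_iff_mod_eq_zero, ← ZMod.natCast_eq_zero_iff, hl, List.sum_ofFn,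
      Nat.cast_sum]
    simp only [ZMod.natCast_zmod_val]
    rw [Equiv.sum_comp τ ε]; exact hsum
  · obtain ⟨hz1, hz2⟩ := Bool.and_eq_true_iff.1 hz
    have h0 : h = 0 := (ZMod.val_eq_zero h).1 (Nat.eq_of_beq_eq_true hz2)
    have he : ∀ i, ε i = 0 := fun i => (ZMod.val_eq_zero _).1 (Nat.eq_of_beq_eq_true
      (List.all_eq_true.1 hz1 _ (List.mem_ofFn.2 ⟨τ.symm i, by simp⟩)))
    funext k
    have hcov : ∀ k : Fin 27, (∃ i, pa i = k) ∨ (∃ i, pb i = k) ∨ ∃ x ∈ pc, x.2.2 = k := by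
      decide +kernel
    rcases hcov k with ⟨i, rfl⟩ | ⟨i, rfl⟩ | ⟨x, hx, rfl⟩
    · rw [ha, he, h0, add_zero]; rfl
    · rw [hb, he, h0, sub_zero]; rfl
    · rw [hc x hx, he, he, add_zero, neg_zero]; rfl
  · set F : ZMod ℓ → ℕ := fun s => if -s = a then 1 else 0 with hF
    have e1 : ∀ s : Fin 6, ind (Nat.beq (((ε s).val + h.val) % ℓ) a.val) =
        if w (pa s) = a then 1 else 0 := fun s => by
      rw [ind_beq, Nat.cast_add, ZMod.natCast_zmod_val, ZMod.natCast_zmod_val, ha]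
    have e2 : ∀ s : Fin 6, ind (Nat.beq ((a.val + h.val) % ℓ) (ε s).val) =
        if w (pb s) = a then 1 else 0 := fun s => by
      rw [ind_beq, Nat.cast_add, ZMod.natCast_zmod_val, ZMod.natCast_zmod_val, hb]
      exact if_congr ⟨fun e => by rw [← e, add_sub_cancel_right], fun e => by rw [← e, sub_add_cancel]⟩
        rfl rfl
    have e3 : ∀ s t : Fin 6, ind (Nat.beq (((ε s).val + (ε t).val + a.val) % ℓ) 0) =
        F (ε s + ε t) := fun s t => by
      rw [show (0 : ℕ) = (0 : ZMod ℓ).val from ZMod.val_zero.symm, ind_beq, Nat.cast_add, Nat.cast_add,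
        ZMod.natCast_zmod_val, ZMod.natCast_zmod_val, ZMod.natCast_zmod_val]
      exact if_congr ⟨fun e => by linear_combination -e, fun e => by linear_combination -e⟩ rfl rfl
    rw [cn, hl]
    simp only [List.map_ofFn, List.sum_ofFn, Function.comp_apply, e1, e2, e3]
    rw [Equiv.sum_comp τ fun i => if w (pa i) = a then 1 else 0,
      Equiv.sum_comp τ fun i => if w (pb i) = a then 1 else 0,
      Equiv.sum_comp τ fun i => F (ε i + ε i),
      Equiv.sum_comp τ fun i => ∑ j, F (ε i + ε (τ j))]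
    rw [Finset.sum_congr rfl fun i _ => Equiv.sum_comp τ fun j => F (ε i + ε j)]
    rw [Finset.card_filter, sum27]
    have hp : (pc.map fun x => if w x.2.2 = a then 1 else 0).sum =
        (pc.map fun x => F (ε x.1 + ε x.2.1)).sum := by
      congr 1
      exact List.map_congr_left fun x hx => by rw [hc x hx]
    rw [hp]
    simp only [pc, List.map_cons, List.map_nil, List.sum_cons, List.sum_nil, Fin.sum_univ_six,
      add_comm (ε 1) (ε 0), add_comm (ε 2) (ε 0), add_comm (ε 3) (ε 0), add_comm (ε 4) (ε 0),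
      add_comm (ε 5) (ε 0), add_comm (ε 2) (ε 1), add_comm (ε 3) (ε 1), add_comm (ε 4) (ε 1),
      add_comm (ε 5) (ε 1), add_comm (ε 3) (ε 2), add_comm (ε 4) (ε 2), add_comm (ε 5) (ε 2),
      add_comm (ε 4) (ε 3), add_comm (ε 5) (ε 3), add_comm (ε 5) (ε 4)]
    omega

theorem invB_of_count {k : ℕ} {l : List ℕ} {h : ℕ} {w : Fin 27 → ZMod ℓ}
    (hcn : ∀ a : ZMod ℓ, cn ℓ l h a.val = 2 * (Finset.univ.filter fun i => w i = a).card)
    (hinv : ∀ a : ZMod ℓ, (Finset.univ.filter fun i => w i = a).card =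
      (Finset.univ.filter fun i => w i = (k : ZMod ℓ) * a).card) : invB ℓ k l h = true := by
  refine List.all_eq_true.2 fun a ha => (Nat.beq_eq ▸ ?_)
  have e1 := hcn (a : ZMod ℓ)
  have e2 := hcn ((k * a : ℕ) : ZMod ℓ)
  rw [ZMod.val_natCast_of_lt (List.mem_range.1 ha)] at e1
  rw [ZMod.val_natCast] at e2
  rw [e1, e2, Nat.cast_mul, hinv]

theorem two_ne [h : Fact (2 < ℓ)] : (2 : ZMod ℓ) ≠ 0 := by
  intro e
  have e' : ((2 : ℕ) : ZMod ℓ) = 0 := by exact_mod_cast e
  rw [ZMod.natCast_eq_zero_iff] at e'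
  have := Nat.le_of_dvd (by norm_num) e'
  have := h.out
  omega

instance : Fact (2 < 7) := ⟨by norm_num⟩

instance : Fact (2 < 11) := ⟨by norm_num⟩

/-- An eleven-weight with counts invariant under cubing has at most six zeros. -/
theorem count_eleven [Fact (Nat.Prime 11)] {w : Fin 27 → ZMod 11}
    (hw : ∀ t ∈ tri, w t.1 + w t.2.1 + w t.2.2.1 = 0) (hne : w ≠ 0)
    (hinv : ∀ a : ZMod 11, (Finset.univ.filter fun i => w i = a).card =
      (Finset.univ.filter fun i => w i = ((3 : ℕ) : ZMod 11) * a).card) :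
    (Finset.univ.filter fun i => w i = 0).card ≤ 6 := by
  obtain ⟨l, hl, h, hh, hz, hcn⟩ := exists_list two_ne hw
  have := List.all_eq_true.1 (List.all_eq_true.1 check_eleven l hl) h (List.mem_range.2 hh)
  rw [Bool.or_eq_true, Bool.and_eq_true, Bool.or_eq_true, invB_of_count hcn hinv] at this
  have h0 := hcn 0
  rw [ZMod.val_zero] at h0
  rcases this with e | ⟨e | e, -⟩
  · exact absurd (hz e) hne
  · exact absurd e (by simp)
  · rw [Nat.ble_eq] at e; omega

/-- An eleven-weight with counts invariant under squaring vanishes. -/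
theorem eq_zero_eleven [Fact (Nat.Prime 11)] {w : Fin 27 → ZMod 11}
    (hw : ∀ t ∈ tri, w t.1 + w t.2.1 + w t.2.2.1 = 0)
    (hinv : ∀ a : ZMod 11, (Finset.univ.filter fun i => w i = a).card =
      (Finset.univ.filter fun i => w i = ((2 : ℕ) : ZMod 11) * a).card) : w = 0 := by
  obtain ⟨l, hl, h, hh, hz, hcn⟩ := exists_list two_ne hw
  have := List.all_eq_true.1 (List.all_eq_true.1 check_eleven l hl) h (List.mem_range.2 hh)
  rw [Bool.or_eq_true, Bool.and_eq_true, invB_of_count hcn hinv] at this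
  rcases this with e | ⟨-, e⟩
  · exact hz e
  · exact absurd e (by simp)

/-- A seven-weight with counts invariant under cubing has at most fourteen zeros. -/
theorem count_seven [Fact (Nat.Prime 7)] {w : Fin 27 → ZMod 7}
    (hw : ∀ t ∈ tri, w t.1 + w t.2.1 + w t.2.2.1 = 0) (hne : w ≠ 0)
    (hinv : ∀ a : ZMod 7, (Finset.univ.filter fun i => w i = a).card =
      (Finset.univ.filter fun i => w i = ((3 : ℕ) : ZMod 7) * a).card) :
    (Finset.univ.filter fun i => w i = 0).card ≤ 14 := by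
  obtain ⟨l, hl, h, hh, hz, hcn⟩ := exists_list two_ne hw
  have := List.all_eq_true.1 (List.all_eq_true.1 check_seven l hl) h (List.mem_range.2 hh)
  rw [Bool.or_eq_true, Bool.or_eq_true, invB_of_count hcn hinv] at this
  have h0 := hcn 0
  rw [ZMod.val_zero] at h0
  rcases this with (e | e) | e
  · exact absurd (hz e) hne
  · exact absurd e (by simp)
  · rw [Nat.ble_eq] at e; omega

end CfsgLib.AltE6
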