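import Cfsg.Agent.AltE6.RepBound
import Cfsg.Agent.AltE6.Weights
import Cfsg.Agent.AltE6.Lift

/-!
Alternating sections of the groups of type E₆.
-/

set_option autoImplicit false
set_option linter.style.haveILetI false

namespace CfsgLib.AltE6

open Cfsg.Lie E6Cubic Equiv Equiv.Perm Module
open scoped commutatorElement

variable {K : Type} [Field K]

/-- A root of unity of order `ℓ` when `ℓ` divides `q - 1`. -/
theorem exists_zeta [Fintype K] {ℓ : ℕ} [Fact ℓ.Prime]
    (hq : ((Fintype.card K : ℕ) : ZMod ℓ) = 1) : ∃ ζ : K, IsPrimitiveRoot ζ ℓ := by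
  have hd : ℓ ∣ Nat.card Kˣ := by
    rw [Nat.card_units, Nat.card_eq_fintype_card, ← ZMod.natCast_eq_zero_iff,
      Nat.cast_sub Fintype.card_pos, hq, Nat.cast_one, sub_self]
  obtain ⟨u, hu⟩ := exists_prime_orderOf_dvd_card' ℓ hd
  refine ⟨(u : K), ?_⟩
  rw [← hu, ← orderOf_units]
  exact IsPrimitiveRoot.orderOf _

theorem isDiag_pow {y : Xg K} {l : Fin 27 → K}
    (hl : IsDiag (y : (Fin 27 → K) ≃ₗ[K] (Fin 27 → K)) l) :
    ∀ n : ℕ, IsDiag ((y ^ n : Xg K) : (Fin 27 → K) ≃ₗ[K] (Fin 27 → K)) fun k => l k ^ n := fun n v k => by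
  induction n generalizing v with
  | zero => simp [LinearEquiv.coe_one]
  | succ n ih =>
    simp only at ih ⊢
    rw [pow_succ', Subgroup.coe_mul, LinearEquiv.mul_apply, hl, ih, pow_succ', mul_assoc]

variable {ℓ : ℕ} [Fact ℓ.Prime] {ζ : K}

/-- The weights of a diagonal element of order dividing `ℓ`. -/
theorem exists_weights (hζ : IsPrimitiveRoot ζ ℓ) {y : Xg K} {l : Fin 27 → K}
    (hl : IsDiag (y : (Fin 27 → K) ≃ₗ[K] (Fin 27 → K)) l) (hy : y ^ ℓ = 1) :
    ∃ w : Fin 27 → ZMod ℓ, (∀ k, l k = ζ ^ (w k).val) ∧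
      (∀ t ∈ tri, w t.1 + w t.2.1 + w t.2.2.1 = 0) ∧ (w = 0 → y = 1) := by
  haveI : NeZero ℓ := ⟨(Fact.out : ℓ.Prime).ne_zero⟩
  have hpow : ∀ k, l k ^ ℓ = 1 := fun k => by
    have h := isDiag_pow hl ℓ (bv k) k
    rw [hy, bv_same, mul_one] at h
    simpa [LinearEquiv.coe_one, bv_same] using h.symm
  have hex : ∀ k, ∃ a : ZMod ℓ, l k = ζ ^ a.val := fun k => by
    obtain ⟨i, hi, e⟩ := hζ.eq_pow_of_pow_eq_one (hpow k)
    exact ⟨(i : ZMod ℓ), by rw [ZMod.val_natCast_of_lt hi, e]⟩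
  choose w hw using hex
  refine ⟨w, hw, fun t ht => ?_, fun h0 => Subtype.ext (LinearEquiv.ext fun v => funext fun k => ?_)⟩
  · have h := hl.mon (range_rep_le y.2) ht
    rw [hw, hw, hw, ← pow_add, ← pow_add, hζ.pow_eq_one_iff_dvd, ← ZMod.natCast_eq_zero_iff] at h
    simpa using h
  · rw [hl, hw, h0]
    simp [LinearEquiv.coe_one]

/-- An element carrying a diagonal element to a power preserves the counts of the weights. -/
theorem count_pow [Fintype K] (hζ : IsPrimitiveRoot ζ ℓ) {y h : Xg K} {l : Fin 27 → K}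
    {w : Fin 27 → ZMod ℓ} (hl : IsDiag (y : (Fin 27 → K) ≃ₗ[K] (Fin 27 → K)) l)
    (hw : ∀ k, l k = ζ ^ (w k).val) {m : ℕ} (hm : (m : ZMod ℓ) ≠ 0) (hh : h * y = y ^ m * h) :
    ∀ a : ZMod ℓ, (Finset.univ.filter fun i => w i = a).card =
      (Finset.univ.filter fun i => w i = (m : ZMod ℓ) * a).card := by
  classical
  haveI : NeZero ℓ := ⟨(Fact.out : ℓ.Prime).ne_zero⟩
  have key : ∀ b : ZMod ℓ, (Finset.univ.filter fun i => w i = b).card =
      (Finset.univ.filter fun i => (m : ZMod ℓ) * w i = b).card := by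
    intro b
    set μ := ζ ^ b.val
    have hS : ∀ (l' : Fin 27 → K) (g : Xg K),
        IsDiag (g : (Fin 27 → K) ≃ₗ[K] (Fin 27 → K)) l' →
        Nat.card {v : Fin 27 → K // (g : (Fin 27 → K) ≃ₗ[K] (Fin 27 → K)) v = μ • v} =
          Fintype.card K ^ (Finset.univ.filter fun i => l' i = μ).card := by
      intro l' g hg
      let e : {v : Fin 27 → K // (g : (Fin 27 → K) ≃ₗ[K] (Fin 27 → K)) v = μ • v} ≃
          ({i // i ∈ Finset.univ.filter fun i => l' i = μ} → K) :=
        { toFun := fun v i => v.1 i.1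
          invFun := fun f => ⟨fun i => if hi : i ∈ Finset.univ.filter (fun i => l' i = μ) then f ⟨i, hi⟩ else 0,
            funext fun i => by
              rw [hg, Pi.smul_apply, smul_eq_mul]
              split_ifs with hi
              · rw [(Finset.mem_filter.1 hi).2]
              · rw [mul_zero, mul_zero]⟩
          left_inv := fun v => Subtype.ext (funext fun i => by
            dsimp only
            split_ifs with hi
            · rfl
            · have h := congrFun v.2 i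
              rw [hg, Pi.smul_apply, smul_eq_mul] at h
              by_contra h0
              exact hi (Finset.mem_filter.2 ⟨Finset.mem_univ _, mul_right_cancel₀ (Ne.symm h0) h⟩))
          right_inv := fun f => funext fun i => by
            dsimp only
            rw [dif_pos i.2] }
      rw [Nat.card_congr e, Nat.card_fun, Nat.card_eq_fintype_card, Nat.card_eq_fintype_card,
        Fintype.card_coe]
    set Y : (Fin 27 → K) ≃ₗ[K] (Fin 27 → K) := y.1
    set Z : (Fin 27 → K) ≃ₗ[K] (Fin 27 → K) := (y ^ m : Xg K).1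
    set Hh : (Fin 27 → K) ≃ₗ[K] (Fin 27 → K) := h.1
    have hcm : ∀ v, Hh (Y v) = Z (Hh v) := fun v =>
      LinearEquiv.congr_fun (congrArg Subtype.val hh) v
    have hiff : ∀ v, Y v = μ • v ↔ Z (Hh v) = μ • Hh v := fun v => by
      rw [← hcm, ← map_smul, Hh.injective.eq_iff]
    have e1 := Nat.card_congr (Hh.toEquiv.subtypeEquiv (p := fun v => Y v = μ • v)
      (q := fun v => Z v = μ • v) hiff)
    rw [hS l y hl, hS _ _ (isDiag_pow hl m)] at e1
    have e2 := Nat.pow_right_injective (Fintype.one_lt_card (α := K)) e1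
    have hf : ∀ i, (l i = μ ↔ w i = b) ∧ (l i ^ m = μ ↔ (m : ZMod ℓ) * w i = b) := fun i => by
      refine ⟨⟨fun e => AltSection.pow_val_inj hζ ((hw i).symm.trans e), fun e => by rw [hw, e]⟩, ?_⟩
      have e : l i ^ m = ζ ^ ((m : ZMod ℓ) * w i).val := by
        rw [hw, ← pow_mul, mul_comm, AltSection.pow_val_mul hζ, ZMod.val_natCast]
        conv_rhs => rw [pow_mul, ← pow_mul, mul_comm (m % ℓ), pow_mul]
        conv_lhs => rw [mul_comm m, pow_mul]
        refine (pow_eq_pow_mod m ?_).trans rfl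
        rw [← pow_mul, mul_comm, pow_mul, hζ.pow_eq_one, one_pow]
      rw [e]
      exact ⟨fun e => AltSection.pow_val_inj hζ e, fun e' => by rw [e']⟩
    rw [Finset.filter_congr fun i _ => (hf i).1, Finset.filter_congr fun i _ => (hf i).2] at e2
    exact e2
  intro a
  rw [key ((m : ZMod ℓ) * a), Finset.filter_congr fun i _ => mul_right_inj' hm]

omit [Fact ℓ.Prime] in
theorem diag_eq_one [Finite K] {x : Xg K} {l : Fin 27 → K}
    (hl : IsDiag (x : (Fin 27 → K) ≃ₗ[K] (Fin 27 → K)) l) (h : ∀ k ∈ [0, 1, 2, 19, 22, 3], l k = 1) :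
    x = 1 := by
  refine Subtype.ext (LinearEquiv.ext fun v => funext fun k => ?_)
  rw [hl, hl.spread_one (range_rep_le x.2) 6 _ h k (spread_ok k), one_mul]
  rfl

/-- Elementary abelian subgroups of the diagonal torus have rank at most six. -/
theorem card_elem_le [Fintype K] (hζ : IsPrimitiveRoot ζ ℓ) (Ω : Subgroup (Xg K))
    (hΩ : ∀ y ∈ Ω, y ^ ℓ = 1) (hdiag : ∀ y ∈ Ω, y ∈ diagSub K) : Nat.card Ω ≤ ℓ ^ 6 := by
  classical
  choose l hl using hdiag
  choose w hw hrel hw0 using fun (y : Ω) => exists_weights hζ (hl y.1 y.2) (hΩ y.1 y.2)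
  let pts : Fin 6 → Fin 27 := ![0, 1, 2, 19, 22, 3]
  let f : Ω → (Fin 6 → ZMod ℓ) := fun y i => w y (pts i)
  have hf : Function.Injective f := by
    intro y y' e
    refine Subtype.ext (inv_mul_eq_one.1 ?_)
    have hd : IsDiag (((y : Xg K)⁻¹ * y' : Xg K) : (Fin 27 → K) ≃ₗ[K] (Fin 27 → K))
        fun k => (l y.1 y.2 k)⁻¹ * l y'.1 y'.2 k := fun v k => by
      have h := hl y.1 y.2 (((y : Xg K)⁻¹ * y' : Xg K).1 v) k
      rw [← LinearEquiv.mul_apply, ← Subgroup.coe_mul, mul_inv_cancel_left, hl y'.1 y'.2] at h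
      rw [mul_assoc, h, inv_mul_cancel_left₀ ((hl y.1 y.2).ne_zero k)]
    refine diag_eq_one hd fun k hk => ?_
    have hk' : ∀ k ∈ [(0 : Fin 27), 1, 2, 19, 22, 3], ∃ i, pts i = k := by decide
    obtain ⟨i, rfl⟩ := hk' k hk
    have e' : w y (pts i) = w y' (pts i) := congrFun e i
    rw [hw, hw, e', inv_mul_cancel₀]
    exact pow_ne_zero _ (hζ.ne_zero (Fact.out : ℓ.Prime).ne_zero)
  have := Nat.card_le_card_of_injective f hf
  rwa [Nat.card_fun, Nat.card_zmod, Nat.card_fin] at this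

/-- The data used throughout: the diagonal subgroup carries the part at `ℓ`. -/
theorem exists_conj_diag [Fintype K] (hζ : IsPrimitiveRoot ζ ℓ) (hℓ3 : 3 < ℓ)
    (hcof : cofactorE6 (1 : ZMod ℓ) ≠ 0) (hq : ((Fintype.card K : ℕ) : ZMod ℓ) = 1)
    {Q : Subgroup (Xg K)} (hQ : IsPGroup ℓ Q) :
    ∃ g : Xg K, ∀ x ∈ Q, g * x * g⁻¹ ∈ diagSub K := by
  refine ToralSection.exists_conj_le (diagSub K) (diag_full hℓ3 hcof hq (t := ζ)
    (hζ.ne_zero (Fact.out : ℓ.Prime).ne_zero) (hζ.ne_one (by omega)) ?_) hQ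
  rw [← pow_two]
  exact hζ.pow_ne_one_of_pos_of_lt (by norm_num) (by omega)

theorem commute_of_isPGroup [Fintype K] (hζ : IsPrimitiveRoot ζ ℓ) (hℓ3 : 3 < ℓ)
    (hcof : cofactorE6 (1 : ZMod ℓ) ≠ 0) (hq : ((Fintype.card K : ℕ) : ZMod ℓ) = 1)
    {Q : Subgroup (Xg K)} (hQ : IsPGroup ℓ Q) {x y : Xg K} (hx : x ∈ Q) (hy : y ∈ Q) :
    Commute x y := by
  obtain ⟨g, hg⟩ := exists_conj_diag hζ hℓ3 hcof hq hQ
  have h := diag_comm _ (hg x hx) _ (hg y hy)
  exact (MulAut.conj g).injective (by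
    rw [map_mul, map_mul]
    exact h.eq)

/-- The eleven-cycle in degree thirteen. -/
def c11 : Perm (Fin 13) :=
  swap 0 1 * swap 1 2 * swap 2 3 * swap 3 4 * swap 4 5 * swap 5 6 * swap 6 7 * swap 7 8 * swap 8 9 *
    swap 9 10

/-- A permutation squaring it. -/
def d11 : Perm (Fin 13) :=
  swap 1 2 * swap 2 4 * swap 4 8 * swap 8 5 * swap 5 10 * swap 10 9 * swap 9 7 * swap 7 3 * swap 3 6 *
    swap 11 12

theorem c11_facts : Perm.sign c11 = 1 ∧ Perm.sign d11 = 1 ∧ d11 * c11 * d11⁻¹ = c11 ^ 2 ∧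
    c11 ^ 11 = 1 ∧ c11 ≠ 1 := by decide +kernel

theorem two_ne_zero_eleven : ((2 : ℕ) : ZMod 11) ≠ 0 := by decide

/-- No alternating section of degree thirteen. -/
theorem no_thirteen [Fintype K] [Fact (Nat.Prime 11)] {ζ : K} (hζ : IsPrimitiveRoot ζ 11)
    (hq : ((Fintype.card K : ℕ) : ZMod 11) = 1) (H : Subgroup (Xg K))
    (π : H →* alternatingGroup (Fin 13)) (hπ : Function.Surjective π) : False := by
  classical
  obtain ⟨sc, sd, hdc, hc11, hc1⟩ := c11_facts
  let a : alternatingGroup (Fin 13) := ⟨c11, mem_alternatingGroup.2 sc⟩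
  let b : alternatingGroup (Fin 13) := ⟨d11, mem_alternatingGroup.2 sd⟩
  have hba : b * a * b⁻¹ = a ^ 2 := Subtype.ext hdc
  have ha : orderOf a = 11 := by
    rw [← Subgroup.orderOf_coe]; exact orderOf_eq_prime hc11 hc1
  obtain ⟨Q₀, hQ₀, ⟨x, hxQ, hπx⟩, hlift⟩ :=
    ToralSection.exists_lift π (ℓ := 11) ha (hπ a)
  obtain ⟨h, hπh, hh⟩ := hlift b (hπ b) (by rw [hba]; exact pow_mem (Subgroup.mem_zpowers a) 2)
  set Q : Subgroup H := Q₀ ⊓ (Subgroup.zpowers a).comap π
  have hhQ : ∀ y ∈ Q, h * y * h⁻¹ ∈ Q := fun y hy => by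
    refine ⟨hh y hy.1, ?_⟩
    obtain ⟨i, hi⟩ := Subgroup.mem_zpowers_iff.1 (show π y ∈ Subgroup.zpowers a from hy.2)
    show π (h * y * h⁻¹) ∈ Subgroup.zpowers a
    rw [map_mul, map_mul, map_inv, hπh, ← hi, ← conj_zpow, hba]
    exact Subgroup.zpow_mem _ (pow_mem (Subgroup.mem_zpowers a) 2) i
  have hQG : IsPGroup 11 (Q.map H.subtype) := (hQ₀.to_le inf_le_left).map _
  have hcomm : ∀ y ∈ Q, ∀ z ∈ Q, Commute y z := fun y hy z hz => Subtype.ext
    (commute_of_isPGroup hζ (by norm_num) cof_eleven hq hQG ⟨y, hy, rfl⟩ ⟨z, hz, rfl⟩).eq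
  let φ : Q →* Q := MonoidHom.mk'
    (fun y => ⟨h * y * h⁻¹ * ((y : H) ^ 2)⁻¹, mul_mem (hhQ y y.2) (inv_mem (pow_mem y.2 2))⟩)
    fun y z => Subtype.ext (by
      show h * ((y : H) * z) * h⁻¹ * (((y : H) * z) ^ 2)⁻¹ =
        h * y * h⁻¹ * ((y : H) ^ 2)⁻¹ * (h * z * h⁻¹ * ((z : H) ^ 2)⁻¹)
      have c1 : Commute ((y : H) ^ 2)⁻¹ (h * z * h⁻¹) :=
        ((hcomm _ y.2 _ (hhQ z z.2)).pow_left 2).inv_left
      rw [(hcomm _ y.2 _ z.2).mul_pow, mul_inv_rev,
        (((hcomm _ z.2 _ y.2).pow_pow 2 2).inv_inv).eq,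
        mul_assoc (h * y * h⁻¹) ((y : H) ^ 2)⁻¹, ← mul_assoc ((y : H) ^ 2)⁻¹, c1.eq]
      group)
  have hnsurj : ¬ Function.Surjective φ := fun hs => by
    obtain ⟨y, hy⟩ := hs ⟨x, hxQ, by
      show π x ∈ Subgroup.zpowers a
      rw [hπx]; exact Subgroup.mem_zpowers a⟩
    obtain ⟨i, hi⟩ := Subgroup.mem_zpowers_iff.1 (show π y.1 ∈ Subgroup.zpowers a from y.2.2)
    have he := congrArg (fun z : Q => π (z : H)) hy
    simp only [φ, MonoidHom.mk'_apply, map_mul, map_inv, map_pow, hπh, hπx] at he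
    rw [← hi, ← conj_zpow, hba] at he
    have : a = 1 := by
      rw [← he, mul_inv_eq_one, ← zpow_natCast, ← zpow_natCast, ← zpow_mul, ← zpow_mul, mul_comm]
    exact hc1 (congrArg Subtype.val this)
  have hninj : ¬ Function.Injective φ := fun hi => hnsurj (Finite.injective_iff_surjective.1 hi)
  rw [← MonoidHom.ker_eq_bot_iff, ← ne_eq, Subgroup.ne_bot_iff_exists_ne_one] at hninj
  obtain ⟨⟨y, hy⟩, hy1⟩ := hninj
  obtain ⟨k, hk⟩ := hQ₀ ⟨(y : H), y.2.1⟩
  have hk' : ((y : H)) ^ 11 ^ k = 1 := congrArg Subtype.val hk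
  have hyne : (y : H) ≠ 1 := fun e => hy1 (Subtype.ext (Subtype.ext e))
  have hd : 11 ∣ orderOf (y : H) := by
    obtain ⟨j, -, hj⟩ := (Nat.dvd_prime_pow (show Nat.Prime 11 by norm_num)).1
      (orderOf_dvd_of_pow_eq_one hk')
    rcases j with _ | j
    · exact absurd (orderOf_eq_one_iff.1 (by simpa using hj)) hyne
    · rw [hj, pow_succ]; exact Dvd.intro_left _ rfl
  obtain ⟨e, he⟩ := hd
  set z : H := (y : H) ^ e
  have hz : orderOf z = 11 := by
    have he0 : e ≠ 0 := fun h0 => by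
      rw [h0, mul_zero] at he
      exact (orderOf_pos (y : H)).ne' he
    rw [orderOf_pow_of_dvd he0 (Dvd.intro_left _ he.symm), he, Nat.mul_div_cancel _ (Nat.pos_of_ne_zero he0)]
  have hzh : h * z = z ^ 2 * h := by
    have h0 : h * (y : H) * h⁻¹ = (y : H) ^ 2 :=
      mul_inv_eq_one.1 (congrArg Subtype.val (MonoidHom.mem_ker.1 hy))
    rw [← mul_inv_eq_iff_eq_mul, ← conj_pow, h0, ← pow_mul, ← pow_mul, mul_comm]
  obtain ⟨g, hg⟩ := exists_conj_diag hζ (by norm_num) cof_eleven hq hQG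
  obtain ⟨l, hl⟩ := hg (z : Xg K) ⟨z, pow_mem y.2 e, rfl⟩
  set Y := g * (z : Xg K) * g⁻¹
  have hY : Y ^ 11 = 1 := by
    rw [conj_pow, ← Subgroup.coe_pow, ← hz, pow_orderOf_eq_one, Subgroup.coe_one, mul_one,
      mul_inv_cancel]
  obtain ⟨w, hw, hrel, hw0⟩ := exists_weights hζ hl hY
  have hconj : g * (h : Xg K) * g⁻¹ * Y = Y ^ 2 * (g * (h : Xg K) * g⁻¹) := by
    have e' := congrArg (fun u : H => (u : Xg K)) hzh
    simp only [Subgroup.coe_mul, Subgroup.coe_pow] at e'
    calc g * (h : Xg K) * g⁻¹ * Y = g * ((h : Xg K) * z) * g⁻¹ := by simp only [Y]; group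
      _ = g * ((z : Xg K) ^ 2 * h) * g⁻¹ := by rw [e']
      _ = Y ^ 2 * (g * (h : Xg K) * g⁻¹) := by simp only [Y, conj_pow]; group
  have h0 := eq_zero_eleven hrel (count_pow hζ hl hw two_ne_zero_eleven hconj)
  have h1 : (z : Xg K) = 1 := conj_eq_one_iff.1 (hw0 h0)
  have : z = 1 := Subtype.ext h1
  rw [this, orderOf_one] at hz
  exact absurd hz (by norm_num)

theorem map_subtype_section {G A : Type*} [Group G] [Group A] {H : Subgroup G} {π : H →* A}
    (L : Subgroup H) (hL : L.map π = ⊤) :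
    ∃ π' : L.map H.subtype →* A, Function.Surjective π' := by
  let e := L.equivMapOfInjective H.subtype H.subtype_injective
  have hs : Function.Surjective (π.comp L.subtype) := fun a => by
    obtain ⟨y, hy, rfl⟩ := (hL.symm ▸ Subgroup.mem_top a : a ∈ L.map π)
    exact ⟨(⟨y, hy⟩ : L), rfl⟩
  refine ⟨(π.comp L.subtype).comp e.symm.toMonoidHom, ?_⟩
  exact hs.comp e.symm.surjective

/-- A minimal cover with a good lift of the long cycle. -/
theorem exists_good [Fintype K] (hζ : IsPrimitiveRoot ζ ℓ) (hℓ3 : 3 < ℓ) (hℓ12 : ¬ ℓ ∣ 12)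
    (hcof : cofactorE6 (1 : ZMod ℓ) ≠ 0) (hq : ((Fintype.card K : ℕ) : ZMod ℓ) = 1)
    {σ : alternatingGroup (Fin 12)} (hσ : orderOf σ = ℓ) (H₀ : Subgroup (Xg K))
    (π₀ : H₀ →* alternatingGroup (Fin 12)) (hπ₀ : Function.Surjective π₀) :
    ∃ (H : Subgroup (Xg K)) (π : H →* alternatingGroup (Fin 12)), Function.Surjective π ∧
      (∀ L : Subgroup H, L.map π = ⊤ → L = ⊤) ∧ ∃ x : H, π x = σ ∧ x ^ ℓ = 1 ∧
        ∀ g, g * σ = σ ^ 3 * g → ∃ h, π h = g ∧ h * x = x ^ 3 * h := by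
  classical
  have hℓ : ℓ.Prime := Fact.out
  let S : Set ℕ := {c | ∃ (H : Subgroup (Xg K)) (π : H →* alternatingGroup (Fin 12)),
    Function.Surjective π ∧ Nat.card H = c}
  obtain ⟨H, π, hπ, hcard⟩ : sInf S ∈ S := Nat.sInf_mem ⟨_, H₀, π₀, hπ₀, rfl⟩
  have hL : ∀ L : Subgroup H, L.map π = ⊤ → L = ⊤ := by
    intro L h
    obtain ⟨π', hπ'⟩ := map_subtype_section L h
    have h1 : sInf S ≤ Nat.card (L.map H.subtype) := Nat.sInf_le ⟨_, π', hπ', rfl⟩
    rw [Subgroup.card_map_of_injective H.subtype_injective, ← hcard] at h1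
    exact Subgroup.eq_top_of_card_eq L (le_antisymm (Subgroup.card_le_card_group L) h1)
  refine ⟨H, π, hπ, hL, ?_⟩
  have hN := normal_dichotomy hπ hL
  have hperf : commutator H = ⊤ := by
    refine (hN _ inferInstance).resolve_left fun h => AltSection.not_all_commute (r := 12) (by omega) fun x y => ?_
    obtain ⟨a, rfl⟩ := hπ x
    obtain ⟨b, rfl⟩ := hπ y
    have hmem : ⁅a, b⁆ ∈ π.ker := h (Subgroup.commutator_mem_commutator (Subgroup.mem_top a)
      (Subgroup.mem_top b))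
    rw [MonoidHom.mem_ker, map_commutatorElement, commutatorElement_eq_one_iff_mul_comm] at hmem
    exact hmem
  -- the kernel has order prime to `ℓ`
  have hker : ¬ ℓ ∣ Nat.card π.ker := by
    intro hd
    let P : Sylow ℓ π.ker := default
    set PH : Subgroup H := (P : Subgroup π.ker).map π.ker.subtype with hPH
    haveI hnormal : PH.Normal := by
      rw [← Subgroup.normalizer_eq_top_iff]
      refine hL _ ?_
      have h := congrArg (Subgroup.map π) (Sylow.normalizer_sup_eq_top P)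
      rw [Subgroup.map_sup, (Subgroup.map_eq_bot_iff _).2 le_rfl, sup_bot_eq,
        Subgroup.map_top_of_surjective π hπ] at h
      exact h
    have hPp : IsPGroup ℓ PH := P.2.map _
    have hPG : IsPGroup ℓ (PH.map H.subtype) := hPp.map _
    obtain ⟨u, hu⟩ := exists_prime_orderOf_dvd_card' ℓ
      (show ℓ ∣ Nat.card (P : Subgroup π.ker) from P.dvd_card_of_dvd_card hd)
    let Ω : Subgroup H :=
      { carrier := {y | y ∈ PH ∧ y ^ ℓ = 1}
        one_mem' := ⟨one_mem _, one_pow _⟩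
        mul_mem' := fun {y z} hy hz => ⟨mul_mem hy.1 hz.1, by
          have hc : Commute y z := Subtype.ext
            (commute_of_isPGroup hζ hℓ3 hcof hq hPG ⟨y, hy.1, rfl⟩ ⟨z, hz.1, rfl⟩).eq
          rw [hc.mul_pow, hy.2, hz.2, one_mul]⟩
        inv_mem' := fun {y} hy => ⟨inv_mem hy.1, by rw [inv_pow, hy.2, inv_one]⟩ }
    haveI : Ω.Normal := ⟨fun y hy g => ⟨hnormal.conj_mem y hy.1 g, by
      rw [conj_pow, hy.2, mul_one, mul_inv_cancel]⟩⟩
    have hu0 : ((u : π.ker) : H) ∈ Ω := ⟨⟨u, u.2, rfl⟩, by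
      have := pow_orderOf_eq_one u
      rw [hu] at this
      exact congrArg (fun z : (P : Subgroup π.ker) => ((z : π.ker) : H)) this⟩
    have hu1 : ((u : π.ker) : H) ≠ 1 := fun e => by
      have : u = 1 := Subtype.ext (Subtype.ext e)
      rw [this, orderOf_one] at hu
      exact hℓ.ne_one hu.symm
    -- central
    letI : CommGroup Ω := { (inferInstance : Group Ω) with
      mul_comm := fun y z => Subtype.ext (Subtype.ext
        (commute_of_isPGroup hζ hℓ3 hcof hq hPG ⟨(y : H), y.2.1, rfl⟩ ⟨(z : H), z.2.1, rfl⟩).eq) }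
    haveI : Module (ZMod ℓ) (Additive Ω) := AddCommGroup.zmodModule fun y =>
      Additive.toMul.injective (by
        rw [toMul_nsmul, toMul_zero]
        exact Subtype.ext (by simpa using y.toMul.2.2))
    haveI : Module.Finite (ZMod ℓ) (Additive Ω) := Module.Finite.of_finite
    let θ : H →* Module.End (ZMod ℓ) (Additive Ω) :=
      { toFun := fun h => (MonoidHom.toAdditive (MulAut.conjNormal (H := Ω) h).toMonoidHom).toZModLinearMap ℓ
        map_one' := LinearMap.ext fun y => by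
          show Additive.ofMul (MulAut.conjNormal (1 : H) y.toMul) = y
          rw [map_one]; rfl
        map_mul' := fun g h => LinearMap.ext fun y => by
          show Additive.ofMul (MulAut.conjNormal (g * h) y.toMul) =
            Additive.ofMul (MulAut.conjNormal g (MulAut.conjNormal h y.toMul))
          rw [map_mul]; rfl }
    set d := finrank (ZMod ℓ) (Additive Ω)
    have hd6 : d ≤ 6 := by
      obtain ⟨g, hg⟩ := exists_conj_diag hζ hℓ3 hcof hq hPG
      let Ω' : Subgroup (Xg K) := (Ω.map H.subtype).map (MulAut.conj g).toMonoidHom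
      have h1 := card_elem_le hζ Ω' (fun y hy => by
        obtain ⟨_, ⟨z, hz, rfl⟩, rfl⟩ := hy
        rw [← map_pow, ← map_pow, hz.2, map_one, map_one]) (fun y hy => by
        obtain ⟨_, ⟨z, hz, rfl⟩, rfl⟩ := hy
        exact hg _ ⟨z, hz.1, rfl⟩)
      rw [Subgroup.card_map_of_injective (MulAut.conj g).injective,
        Subgroup.card_map_of_injective H.subtype_injective,
        Nat.card_congr (Additive.ofMul (α := Ω)), Module.natCard_eq_pow_finrank (K := ZMod ℓ),
        Nat.card_zmod] at h1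
      exact (Nat.pow_le_pow_iff_right hℓ.one_lt).1 h1
    have htop : θ.ker = ⊤ := by
      refine (hN θ.ker inferInstance).resolve_left fun hle => ?_
      let b := Module.finBasis (ZMod ℓ) (Additive Ω)
      let f : Module.End (ZMod ℓ) (Additive Ω) →* Module.End (AlgebraicClosure (ZMod ℓ))
          (Fin d → AlgebraicClosure (ZMod ℓ)) :=
        (Matrix.toLinAlgEquiv' (R := AlgebraicClosure (ZMod ℓ))
            (n := Fin d)).toAlgHom.toRingHom.toMonoidHom.comp
          ((algebraMap (ZMod ℓ) (AlgebraicClosure (ZMod ℓ))).mapMatrix.toMonoidHom.comp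
            (LinearMap.toMatrixAlgEquiv b).toAlgHom.toRingHom.toMonoidHom)
      have hf : Function.Injective f :=
        (Matrix.toLinAlgEquiv' (R := AlgebraicClosure (ZMod ℓ)) (n := Fin d)).injective.comp
          ((Matrix.map_injective (algebraMap (ZMod ℓ) (AlgebraicClosure (ZMod ℓ))).injective).comp
            (LinearMap.toMatrixAlgEquiv b).injective)
      have := AltSection.good 12 (by norm_num) d ℓ (AlgebraicClosure (ZMod ℓ)) H π _ (f.comp θ) hπ
        (fun h hh => hle (by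
          rw [MonoidHom.mem_ker] at hh ⊢
          exact hf (by rw [map_one]; exact hh))) (Module.finrank_fin_fun _)
      rw [if_neg hℓ12] at this
      omega
    set z : H := ((u : π.ker) : H)
    have hzc : ∀ h : H, h * z = z * h := fun h => by
      have h1 : θ h = 1 := (htop ▸ Subgroup.mem_top h : h ∈ θ.ker)
      have h2 := LinearMap.congr_fun h1 (Additive.ofMul (⟨z, hu0⟩ : Ω))
      have h3 : h * z * h⁻¹ = z := congrArg (fun y : Additive Ω => ((y.toMul : Ω) : H)) h2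
      exact mul_inv_eq_iff_eq_mul.1 h3
    -- transfer into an abelian Sylow subgroup
    obtain ⟨T, hT⟩ := hPp.exists_le_sylow
    letI : CommGroup (T : Subgroup H) := { (inferInstance : Group (T : Subgroup H)) with
      mul_comm := fun y y' => Subtype.ext (Subtype.ext (commute_of_isPGroup hζ hℓ3 hcof hq
        (T.2.map H.subtype) ⟨(y : H), y.2, rfl⟩ ⟨(y' : H), y'.2, rfl⟩).eq) }
    let φ : (T : Subgroup H) →* (T : Subgroup H) := MonoidHom.id _
    have htriv : MonoidHom.transfer φ z = 1 := by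
      have : (⊤ : Subgroup H) ≤ (MonoidHom.transfer φ).ker :=
        hperf ▸ Abelianization.commutator_subset_ker _
      exact this (Subgroup.mem_top z)
    have hkey : ∀ (k : ℕ) (g₀ : H), g₀⁻¹ * z ^ k * g₀ ∈ (T : Subgroup H) →
        g₀⁻¹ * z ^ k * g₀ = z ^ k := fun k g₀ _ => by
      rw [mul_assoc, ((show Commute z g₀ from (hzc g₀).symm).pow_left k).eq, inv_mul_cancel_left]
    rw [MonoidHom.transfer_eq_pow φ z hkey] at htriv
    have hzi : z ^ (T : Subgroup H).index = 1 := congrArg Subtype.val htriv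
    have hzℓ : z ^ ℓ = 1 := hu0.2
    have hg1 := pow_gcd_eq_one.2 ⟨hzℓ, hzi⟩
    rw [Nat.Coprime.gcd_eq_one ((hℓ.coprime_iff_not_dvd).2 (Sylow.not_dvd_index T)), pow_one] at hg1
    exact hu1 hg1
  -- the lift
  obtain ⟨Q, hQ, ⟨x, hxQ, hπx⟩, hlift⟩ := ToralSection.exists_lift π hσ (hπ σ)
  have hinj : ∀ y ∈ Q, π y = 1 → y = 1 := fun y hy h1 => by
    obtain ⟨k, hk⟩ := hQ ⟨y, hy⟩
    have hk' : y ^ ℓ ^ k = 1 := congrArg Subtype.val hk
    have h2 : orderOf y ∣ Nat.card π.ker := by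
      rw [← Subgroup.orderOf_mk y (MonoidHom.mem_ker.2 h1)]; exact orderOf_dvd_natCard _
    have hco : Nat.Coprime (ℓ ^ k) (Nat.card π.ker) :=
      Nat.Coprime.pow_left k (hℓ.coprime_iff_not_dvd.2 hker)
    exact orderOf_eq_one_iff.1 (Nat.eq_one_of_dvd_coprimes hco (orderOf_dvd_of_pow_eq_one hk') h2)
  refine ⟨x, hπx, hinj _ (pow_mem hxQ ℓ) (by rw [map_pow, hπx, ← hσ, pow_orderOf_eq_one]),
    fun g hg => ?_⟩
  have hgσ : g * σ * g⁻¹ = σ ^ 3 := mul_inv_eq_iff_eq_mul.2 hg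
  obtain ⟨h, hπh, hh⟩ := hlift g (hπ g) (by rw [hgσ]; exact pow_mem (Subgroup.mem_zpowers σ) 3)
  refine ⟨h, hπh, ?_⟩
  have h1 : h * x * h⁻¹ * (x ^ 3)⁻¹ = 1 := hinj _ (mul_mem (hh x hxQ) (inv_mem (pow_mem hxQ 3))) (by
    rw [map_mul, map_mul, map_mul, map_inv, map_inv, map_pow, hπh, hπx, hgσ, mul_inv_cancel])
  exact mul_inv_eq_iff_eq_mul.1 (mul_inv_eq_one.1 h1)

/-- The representation over the algebraic closure. -/
noncomputable def closureRep (K : Type) [Field K] :
    Xg K →* Module.End (AlgebraicClosure K) (Fin 27 → AlgebraicClosure K) :=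
  (Matrix.toLinAlgEquiv' (R := AlgebraicClosure K) (n := Fin 27)).toAlgHom.toRingHom.toMonoidHom.comp
    ((algebraMap K (AlgebraicClosure K)).mapMatrix.toMonoidHom.comp
      ((LinearMap.toMatrixAlgEquiv' (R := K) (n := Fin 27)).toAlgHom.toRingHom.toMonoidHom.comp
        (LinearEquiv.automorphismGroup.toLinearMapMonoidHom.comp (Xg K).subtype)))

theorem closureRep_injective : Function.Injective (closureRep K) :=
  (Matrix.toLinAlgEquiv' (R := AlgebraicClosure K) (n := Fin 27)).injective.comp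
    ((Matrix.map_injective (algebraMap K (AlgebraicClosure K)).injective).comp
      ((LinearMap.toMatrixAlgEquiv' (R := K) (n := Fin 27)).injective.comp
        (LinearEquiv.toLinearMap_injective.comp Subtype.val_injective)))

theorem rank_diag [DecidableEq K] {y : Xg K} {l : Fin 27 → K}
    (hl : IsDiag (y : (Fin 27 → K) ≃ₗ[K] (Fin 27 → K)) l) :
    finrank (AlgebraicClosure K) (LinearMap.range (closureRep K y - 1)) =
      (Finset.univ.filter fun k => l k ≠ 1).card := by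
  classical
  have hM : LinearMap.toMatrixAlgEquiv' ((y : (Fin 27 → K) ≃ₗ[K] (Fin 27 → K)) : (Fin 27 → K) →ₗ[K] (Fin 27 → K)) =
      Matrix.diagonal l := by
    ext i j
    rw [LinearMap.toMatrixAlgEquiv'_apply]
    show (y : (Fin 27 → K) ≃ₗ[K] (Fin 27 → K)) _ i = _
    rw [hl]
    by_cases h : i = j
    · subst h; simp
    · simp [h, Matrix.diagonal_apply_ne _ h]
  have h1 : closureRep K y - 1 = Matrix.toLinAlgEquiv' (Matrix.diagonal
      fun k => algebraMap K (AlgebraicClosure K) (l k) - 1) := by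
    show Matrix.toLinAlgEquiv' ((algebraMap K (AlgebraicClosure K)).mapMatrix
      (LinearMap.toMatrixAlgEquiv' _)) - 1 = _
    erw [hM]
    rw [RingHom.mapMatrix_apply, Matrix.diagonal_map (map_zero _),
      ← map_one (Matrix.toLinAlgEquiv' (R := AlgebraicClosure K) (n := Fin 27)), ← map_sub,
      ← Matrix.diagonal_one, Matrix.diagonal_sub]
  rw [h1]
  show (Matrix.diagonal fun k => algebraMap K (AlgebraicClosure K) (l k) - 1).rank = _
  rw [Matrix.rank_diagonal, Fintype.card_subtype]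
  congr 1
  ext k
  simp [sub_eq_zero]

/-- No alternating section of degree twelve. -/
theorem no_twelve [Fintype K] {p : ℕ} [Fact p.Prime] [CharP K p] (hp2 : p ≠ 2) (hp3 : p ≠ 3)
    {σ : alternatingGroup (Fin 12)} (hc : Case ℓ σ) (hp : p ≠ ℓ) (hζ : IsPrimitiveRoot ζ ℓ)
    (hcof : cofactorE6 (1 : ZMod ℓ) ≠ 0) (hq : ((Fintype.card K : ℕ) : ZMod ℓ) = 1)
    (hcount : ∀ w : Fin 27 → ZMod ℓ, (∀ t ∈ tri, w t.1 + w t.2.1 + w t.2.2.1 = 0) → w ≠ 0 →
      (∀ a : ZMod ℓ, (Finset.univ.filter fun i => w i = a).card =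
        (Finset.univ.filter fun i => w i = ((3 : ℕ) : ZMod ℓ) * a).card) →
      (Finset.univ.filter fun i => w i = 0).card + (ℓ - 1) * 2 < 27)
    (H₀ : Subgroup (Xg K)) (π₀ : H₀ →* alternatingGroup (Fin 12)) (hπ₀ : Function.Surjective π₀) :
    False := by
  classical
  have hℓ' : ℓ = 7 ∨ ℓ = 11 := hc.imp And.left And.left
  have hℓ12 : ¬ ℓ ∣ 12 := by rcases hℓ' with rfl | rfl <;> decide
  obtain ⟨H, π, hπ, hL, x, hx, hxℓ, hnx⟩ :=
    exists_good hζ (by omega) hℓ12 hcof hq hc.orderOf_eq H₀ π₀ hπ₀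
  haveI : CharP (AlgebraicClosure K) p :=
    charP_of_injective_ringHom (algebraMap K (AlgebraicClosure K)).injective p
  have hℓK : ((ℓ : ℕ) : AlgebraicClosure K) ≠ 0 :=
    AltSection.natCast_ne_zero_of_prime (Fact.out : p.Prime) (Fact.out : ℓ.Prime) hp
  obtain ⟨M, hM1, hM10, hrank⟩ := rep_bound hπ hL hp2 hp3 hc hℓK hx hxℓ hnx 27
    (Fin 27 → AlgebraicClosure K) ((closureRep K).comp H.subtype) (Module.finrank_fin_fun _) le_rfl
    (fun u hu => by
      have : (u : Xg K) = 1 := closureRep_injective (by rw [map_one]; exact hu)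
      rw [show u = 1 from Subtype.ext this]; exact one_mem _)
  have hxG : ((x : Xg K)) ^ ℓ = 1 := by rw [← Subgroup.coe_pow, hxℓ, Subgroup.coe_one]
  obtain ⟨g, hg⟩ := exists_conj_diag hζ (by omega) hcof hq
    (Q := Subgroup.zpowers (x : Xg K)) (IsPGroup.of_card_dvd_pow (n := 1) (by
      rw [Nat.card_zpowers, pow_one]; exact orderOf_dvd_of_pow_eq_one hxG))
  obtain ⟨l, hl⟩ := hg _ (Subgroup.mem_zpowers _)
  set Y := g * (x : Xg K) * g⁻¹ with hYdef
  have hY : Y ^ ℓ = 1 := by rw [hYdef, conj_pow, hxG, mul_one, mul_inv_cancel]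
  obtain ⟨w, hw, hrel, hw0⟩ := exists_weights hζ hl hY
  have hwne : w ≠ 0 := fun h0 => by
    have h1 : (x : Xg K) = 1 := conj_eq_one_iff.1 (hw0 h0)
    have h2 := hc.orderOf_eq
    rw [← hx, show x = 1 from Subtype.ext h1, map_one, orderOf_one] at h2
    exact (Fact.out : ℓ.Prime).ne_one h2.symm
  obtain ⟨g₀, hg₀⟩ : ∃ g₀, g₀ * σ = σ ^ 3 * g₀ := by
    rcases hc with ⟨-, rfl⟩ | ⟨-, rfl⟩
    · obtain ⟨g₀, hg₀, -⟩ := fix_seven 7 (by decide +kernel); exact ⟨g₀, hg₀⟩
    · obtain ⟨g₀, hg₀, -⟩ := fix_eleven 11 (by decide +kernel); exact ⟨g₀, hg₀⟩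
  obtain ⟨h, -, hh⟩ := hnx g₀ hg₀
  have hconj : g * (h : Xg K) * g⁻¹ * Y = Y ^ 3 * (g * (h : Xg K) * g⁻¹) := by
    have e' := congrArg (fun u : H => (u : Xg K)) hh
    simp only [Subgroup.coe_mul, Subgroup.coe_pow] at e'
    calc g * (h : Xg K) * g⁻¹ * Y = g * ((h : Xg K) * x) * g⁻¹ := by simp only [Y]; group
      _ = g * ((x : Xg K) ^ 3 * h) * g⁻¹ := by rw [e']
      _ = Y ^ 3 * (g * (h : Xg K) * g⁻¹) := by simp only [Y, conj_pow]; group
  have h3 : ((3 : ℕ) : ZMod ℓ) ≠ 0 := fun e => by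
    have := Nat.le_of_dvd (by norm_num) ((ZMod.natCast_eq_zero_iff _ _).1 e)
    omega
  have hc0 := hcount w hrel hwne (count_pow hζ hl hw h3 hconj)
  -- the ranks
  have hrk : finrank (AlgebraicClosure K) (LinearMap.range (closureRep K Y - 1)) =
      finrank (AlgebraicClosure K) (LinearMap.range (closureRep K (x : Xg K) - 1)) := by
    set ρ := closureRep K
    have hc' : (ρ Y - 1) * ρ g = ρ g * (ρ (x : Xg K) - 1) := by
      rw [sub_mul, mul_sub, one_mul, mul_one, ← map_mul, ← map_mul, hYdef, inv_mul_cancel_right]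
    have hinj : Function.Injective (ρ g) := fun u v e => by
      have := congrArg (ρ g⁻¹) e
      rwa [← Module.End.mul_apply, ← Module.End.mul_apply, ← map_mul, inv_mul_cancel, map_one,
        Module.End.one_apply, Module.End.one_apply] at this
    have hsurj : LinearMap.range (ρ g) = ⊤ := LinearMap.range_eq_top.2
      (LinearMap.injective_iff_surjective.1 hinj)
    have h1 := congrArg LinearMap.range hc'
    rw [Module.End.mul_eq_comp, Module.End.mul_eq_comp, LinearMap.range_comp, LinearMap.range_comp,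
      hsurj, Submodule.map_top] at h1
    rw [h1]
    exact ((LinearMap.range _).equivMapOfInjective _ hinj).finrank_eq.symm
  rw [rank_diag hl] at hrk
  have hsplit := Finset.card_filter_add_card_filter_not (s := (Finset.univ : Finset (Fin 27)))
    (fun k => l k = 1)
  rw [Finset.card_univ, Fintype.card_fin] at hsplit
  have hw1 : (Finset.univ.filter fun k => l k = 1).card = (Finset.univ.filter fun i => w i = 0).card := by
    congr 1
    refine Finset.filter_congr fun i _ => ?_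
    rw [hw]
    exact ⟨fun e => AltSection.pow_val_inj hζ (e.trans (by simp)), fun e => by simp [e]⟩
  have hrank' : finrank (AlgebraicClosure K) (LinearMap.range (closureRep K (x : Xg K) - 1)) ≤
      (ℓ - 1) * M := hrank
  have hM2 : (ℓ - 1) * M ≤ (ℓ - 1) * 2 := Nat.mul_le_mul_left _ (by omega)
  have hsame : (Finset.univ.filter fun k => l k ≠ 1) = (Finset.univ.filter fun k => ¬ l k = 1) :=
    Finset.ext fun k => by simp
  have hrk' : (Finset.univ.filter fun k => ¬ l k = 1).card ≤ (ℓ - 1) * M := by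
    rw [← hsame]
    exact (le_of_eq (by convert hrk)).trans hrank'
  omega

/-- Alternating sections of the groups of type E₆. -/
theorem alt_section {F : Type*} [Field F] [Fintype F] {p r : ℕ} [Fact p.Prime] [CharP F p]
    {H : Subgroup (chevE6.group F)} {π : H →* alternatingGroup (Fin r)} (hπ : Function.Surjective π) :
    r ≤ 11 + (if p = 2 ∨ p = 3 ∨ p = 5 then 1 else 0) := by
  classical
  have lift : ∀ (K : Type) (_ : Field K) (_ : F →+* K) (n : ℕ), n ≤ r →
      ∃ (H' : Subgroup (Xg K)) (π' : H' →* alternatingGroup (Fin n)), Function.Surjective π' := by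
    intro K _ f n hn
    obtain ⟨H1, π1, hπ1⟩ := Chev.good_E6.exists_section_ext f hπ
    obtain ⟨H2, π2, hπ2⟩ := ToralSection.exists_alt_section hn hπ1
    obtain ⟨α, hα, -⟩ := exists_cover (K := K)
    refine ⟨H2.comap α, π2.comp (((α.comp (H2.comap α).subtype)).codRestrict H2 fun z => z.2),
      hπ2.comp fun y => ?_⟩
    obtain ⟨z, hz⟩ := hα y
    exact ⟨⟨z, show α z ∈ H2 from hz ▸ y.2⟩, Subtype.ext hz⟩
  have ext : ∀ ℓ : ℕ, ℓ.Prime → p ≠ ℓ → ∃ (K : Type) (_ : Field K) (_ : Fintype K) (_ : F →+* K),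
      ((Fintype.card K : ℕ) : ZMod ℓ) = 1 := by
    intro ℓ hℓ hp
    haveI := Fact.mk hℓ
    haveI : NeZero (ℓ - 1) := ⟨by have := hℓ.two_le; omega⟩
    obtain ⟨K, hKf, hKt, f, hK⟩ := Chev.Tab.Good.exists_field_ext (F := F) (ℓ - 1)
    exact ⟨K, hKf, hKt, f, by rw [hK]; exact Chev.pow_cast_one (Chev.not_dvd_card hℓ hp)⟩
  haveI := Fact.mk (show Nat.Prime 11 by norm_num)
  haveI := Fact.mk (show Nat.Prime 7 by norm_num)
  have h12 : ¬ (p = 2 ∨ p = 3 ∨ p = 5) → r ≤ 11 := by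
    intro hp
    push Not at hp
    by_contra hr
    by_cases h11 : p = 11
    · obtain ⟨K, hKf, hKt, f, hq⟩ := ext 7 (by norm_num) (by omega)
      haveI : CharP K p := charP_of_injective_ringHom f.injective p
      obtain ⟨ζ, hζ⟩ := exists_zeta (ℓ := 7) hq
      obtain ⟨H', π', hπ'⟩ := lift K hKf f 12 (by omega)
      exact no_twelve hp.1 hp.2.1 (Or.inl ⟨rfl, rfl⟩) (by omega) hζ cof_seven hq
        (fun w h1 h2 h3 => by have := count_seven h1 h2 h3; omega) H' π' hπ'
    · obtain ⟨K, hKf, hKt, f, hq⟩ := ext 11 (by norm_num) h11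
      haveI : CharP K p := charP_of_injective_ringHom f.injective p
      obtain ⟨ζ, hζ⟩ := exists_zeta (ℓ := 11) hq
      obtain ⟨H', π', hπ'⟩ := lift K hKf f 12 (by omega)
      exact no_twelve hp.1 hp.2.1 (Or.inr ⟨rfl, rfl⟩) h11 hζ cof_eleven hq
        (fun w h1 h2 h3 => by have := count_eleven h1 h2 h3; omega) H' π' hπ'
  split_ifs with hp
  · by_contra hr
    obtain ⟨K, hKf, hKt, f, hq⟩ := ext 11 (by norm_num) (by omega)
    obtain ⟨ζ, hζ⟩ := exists_zeta (ℓ := 11) hq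
    obtain ⟨H', π', hπ'⟩ := lift K hKf f 13 (by omega)
    exact no_thirteen hζ hq H' π' hπ'
  · exact h12 hp

theorem twistedE6_le_group {F : Type*} [Field F] (q : ℕ) : twistedE6 F q ≤ chevE6.group F := by
  rw [twistedE6, ChevalleyDatum.genSubgroup, Subgroup.closure_le]
  rintro g ⟨w, -, hg⟩
  have e : g = (w.map fun p => Chev.good_E6.full.x p.1 p.2).prod :=
    Units.ext (hg.trans (Chev.good_E6.full.coe_word w).symm)
  rw [e]
  exact list_prod_mem fun x hx => by
    obtain ⟨p, -, rfl⟩ := List.mem_map.1 hx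
    exact Chev.good_E6.x_mem_group _ _

end CfsgLib.AltE6
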