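import Cfsg.Agent.AltSection.Reduce
import Cfsg.Agent.AltE6.Core

/-!
Representations of degree at most twenty-seven in which the kernel of the map onto the alternating
group of degree twelve does not act by scalars are monomial.
-/

set_option autoImplicit false

namespace CfsgLib.AltE6

open Equiv Equiv.Perm Module CfsgLib.BPres CfsgLib.AltSection
open scoped commutatorElement

/-- A nonscalar normal subgroup of prime power order yields an abelian one. -/
theorem exists_abelian {H : Type} [Group H] [Finite H]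
    {π : H →* alternatingGroup (Fin 12)} (hπ : Function.Surjective π)
    (hN : ∀ N : Subgroup H, N.Normal → N ≤ π.ker ∨ N = ⊤) (hperf : commutator H = ⊤)
    {K V : Type} [Field K] [IsAlgClosed K] [AddCommGroup V] [Module K V] [FiniteDimensional K V]
    [Nontrivial V] {n : ℕ} (hn : finrank K V = n) (h27 : n ≤ 27) (ρ : H →* Module.End K V)
    (hirr : ∀ W : Submodule K V, (∀ h, ∀ v ∈ W, ρ h v ∈ W) → W = ⊥ ∨ W = ⊤)
    {s : ℕ} [Fact s.Prime] (Q₀ : Subgroup H) [Q₀.Normal] (hQ₀ : IsPGroup s Q₀)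
    (hQ₀s : ¬ Q₀ ≤ scalars ρ) :
    ∃ A : Subgroup H, A.Normal ∧ (∀ a ∈ A, ∀ b ∈ A, ρ a * ρ b = ρ b * ρ a) ∧ ¬ A ≤ scalars ρ := by
  classical
  by_contra hno
  have habel : ∀ A : Subgroup H, A.Normal → (∀ a ∈ A, ∀ b ∈ A, ρ a * ρ b = ρ b * ρ a) →
      A ≤ scalars ρ := fun A hA hcomm => by_contra fun h => hno ⟨A, hA, hcomm, h⟩
  -- a least such subgroup
  let S : Set ℕ := {c | ∃ Q : Subgroup H, Q.Normal ∧ IsPGroup s Q ∧ ¬ Q ≤ scalars ρ ∧ Nat.card Q = c}
  have hS : S.Nonempty := ⟨_, Q₀, inferInstance, hQ₀, hQ₀s, rfl⟩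
  obtain ⟨Q, hQn, hQp, hQs, hQc⟩ : sInf S ∈ S := Nat.sInf_mem hS
  haveI := hQn
  have hmin : ∀ D : Subgroup H, D.Normal → IsPGroup s D → Nat.card D < Nat.card Q →
      D ≤ scalars ρ := fun D hD hDp hlt => by
    by_contra h
    have : sInf S ≤ Nat.card D := Nat.sInf_le ⟨D, hD, hDp, h, rfl⟩
    omega
  -- a maximal subgroup
  obtain ⟨k, hk⟩ := IsPGroup.iff_card.1 hQp
  obtain ⟨k, rfl⟩ : ∃ k', k = k' + 1 := by
    refine ⟨k - 1, ?_⟩
    rcases Nat.eq_zero_or_pos k with h0 | h0
    · rw [h0, pow_zero, Subgroup.card_eq_one] at hk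
      exact absurd (hk ▸ bot_le) hQs
    · omega
  obtain ⟨M, hM⟩ := Sylow.exists_subgroup_card_pow_prime (G := Q) s (n := k)
    (hk ▸ pow_dvd_pow s (Nat.le_succ k))
  have hs0 : s ≠ 0 := (Fact.out : s.Prime).ne_zero
  have hMi : M.index = s := by
    have h := M.card_mul_index
    rw [hM, hk, pow_succ] at h
    exact mul_left_cancel₀ (pow_ne_zero _ hs0) h
  haveI hMn : M.Normal := Subgroup.normal_of_index_eq_minFac_card (by
    rw [hMi, hk, Nat.Prime.pow_minFac Fact.out (Nat.succ_ne_zero k)])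
  haveI hcyc : IsCyclic (Q ⧸ M) := isCyclic_of_prime_card (p := s) hMi
  -- powers and commutators
  let gens : Set H :=
    {x | ∃ q ∈ Q, x = q ^ s} ∪ {x | ∃ q ∈ Q, ∃ q' ∈ Q, x = ⁅q, q'⁆}
  let D := Subgroup.closure gens
  have hDM : D ≤ M.map Q.subtype := by
    rw [Subgroup.closure_le]
    rintro x (⟨q, hq, rfl⟩ | ⟨q, hq, q', hq', rfl⟩)
    · refine ⟨⟨q, hq⟩ ^ s, ?_, rfl⟩
      rw [SetLike.mem_coe, ← QuotientGroup.eq_one_iff, QuotientGroup.mk_pow]
      have hc : Nat.card (Q ⧸ M) = s := hMi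
      conv_lhs => arg 2; rw [← hc]
      exact pow_card_eq_one'
    · refine ⟨⁅(⟨q, hq⟩ : Q), ⟨q', hq'⟩⁆, ?_, rfl⟩
      rw [SetLike.mem_coe, ← QuotientGroup.eq_one_iff]
      show (QuotientGroup.mk' M) ⁅(⟨q, hq⟩ : Q), ⟨q', hq'⟩⁆ = 1
      rw [map_commutatorElement, commutatorElement_eq_one_iff_mul_comm]
      letI := hcyc.commGroup
      exact mul_comm _ _
  haveI hDn : D.Normal := by
    constructor
    intro x hx g
    have : D.map (MulAut.conj g).toMonoidHom ≤ D := by
      rw [MonoidHom.map_closure, Subgroup.closure_le]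
      rintro _ ⟨y, hy, rfl⟩
      refine Subgroup.subset_closure ?_
      rcases hy with ⟨q, hq, rfl⟩ | ⟨q, hq, q', hq', rfl⟩
      · exact Or.inl ⟨g * q * g⁻¹, hQn.conj_mem q hq g, by simp [conj_pow]⟩
      · refine Or.inr ⟨g * q * g⁻¹, hQn.conj_mem q hq g, g * q' * g⁻¹, hQn.conj_mem q' hq' g, ?_⟩
        exact map_commutatorElement (MulAut.conj g).toMonoidHom q q'
    exact this ⟨x, hx, rfl⟩
  have hDQ : D ≤ Q := hDM.trans (Subgroup.map_subtype_le M)
  have hDs : D ≤ scalars ρ := by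
    refine hmin D hDn (hQp.to_le hDQ) ?_
    have h1 := Subgroup.card_le_of_le hDM
    rw [Subgroup.card_map_of_injective Q.subtype_injective, hM] at h1
    rw [hk, pow_succ]
    have h2 : 0 < s ^ k := pow_pos (Nat.pos_of_ne_zero hs0) k
    have h3 : 2 ≤ s := (Fact.out : s.Prime).two_le
    nlinarith
  -- the quotient by the scalars
  let Z : Subgroup Q := (scalars ρ).subgroupOf Q
  let U := Q ⧸ Z
  have hUc : ∀ x y : U, x * y = y * x := by
    intro x y
    induction x using QuotientGroup.induction_on with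
    | H a =>
      induction y using QuotientGroup.induction_on with
      | H b =>
        rw [← QuotientGroup.mk_mul, ← QuotientGroup.mk_mul, eq_comm, QuotientGroup.eq,
          Subgroup.mem_subgroupOf]
        refine hDs (Subgroup.subset_closure (Or.inr ⟨(a : H)⁻¹, Q.inv_mem a.2, (b : H)⁻¹,
          Q.inv_mem b.2, ?_⟩))
        simp [commutatorElement_def, mul_assoc]
  have hUs : ∀ x : U, x ^ s = 1 := by
    intro x
    induction x using QuotientGroup.induction_on with
    | H a =>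
      rw [← QuotientGroup.mk_pow, QuotientGroup.eq_one_iff, Subgroup.mem_subgroupOf]
      exact hDs (Subgroup.subset_closure (Or.inl ⟨a, a.2, rfl⟩))
  -- counting
  have hswap : ∀ (u : U) (x : Q), ∃ c : K,
      ρ x * ρ ((u.out : Q) : H) * ρ (x : H)⁻¹ = c • ρ ((u.out : Q) : H) := by
    intro u x
    obtain ⟨c, hc⟩ := (mem_scalars ρ).1
      (hDs (Subgroup.subset_closure (Or.inr ⟨(x : H), x.2, (u.out : Q), (u.out : Q).2, rfl⟩)))
    refine ⟨c, ?_⟩
    rw [← map_mul, ← map_mul,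
      show (x : H) * (u.out : Q) * (x : H)⁻¹ = ⁅(x : H), ((u.out : Q) : H)⁆ * (u.out : Q) by
        simp [commutatorElement_def],
      map_mul, hc, smul_mul_assoc, one_mul]
  choose χ hχ using hswap
  let conjOp : Q → Module.End K (Module.End K V) := fun x =>
    LinearMap.mulLeft K (ρ x) ∘ₗ LinearMap.mulRight K (ρ (x : H)⁻¹)
  obtain ⟨hUfin, hUle⟩ := eigen_count (X := U) conjOp (fun u => ρ ((u.out : Q) : H)) χ
    (by
      intro u u' huu
      set q : H := ((u.out : Q) : H)⁻¹ * (u'.out : Q)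
      let A : Subgroup H :=
        { carrier := {y | y ∈ Q ∧ ∀ x ∈ Q, ρ x * ρ y = ρ y * ρ x}
          one_mem' := ⟨Q.one_mem, fun x _ => by simp⟩
          mul_mem' := fun {y y'} h h' => ⟨Q.mul_mem h.1 h'.1, fun x hx => by
            rw [map_mul, ← mul_assoc, h.2 x hx, mul_assoc, h'.2 x hx, mul_assoc]⟩
          inv_mem' := fun {y} h => ⟨Q.inv_mem h.1, fun x hx => by
            have e1 : ρ y⁻¹ * ρ y = 1 := by rw [← map_mul, inv_mul_cancel, map_one]
            have e2 : ρ y * ρ y⁻¹ = 1 := by rw [← map_mul, mul_inv_cancel, map_one]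
            calc ρ x * ρ y⁻¹ = ρ y⁻¹ * (ρ y * ρ x) * ρ y⁻¹ := by rw [← mul_assoc, e1, one_mul]
              _ = ρ y⁻¹ * ρ x := by rw [← h.2 x hx, mul_assoc, mul_assoc, e2, mul_one]⟩ }
      have hAn : A.Normal := ⟨fun y hy g => ⟨hQn.conj_mem y hy.1 g, fun x hx => by
        have h : ρ ((g⁻¹ * x * g) * y) = ρ (y * (g⁻¹ * x * g)) := by
          rw [map_mul ρ (g⁻¹ * x * g) y, map_mul ρ y (g⁻¹ * x * g)]
          exact hy.2 _ (hQn.conj_mem' x hx g)
        rw [← map_mul, ← map_mul, show x * (g * y * g⁻¹) = g * ((g⁻¹ * x * g) * y) * g⁻¹ by group,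
          show (g * y * g⁻¹) * x = g * (y * (g⁻¹ * x * g)) * g⁻¹ by group,
          map_mul ρ (g * ((g⁻¹ * x * g) * y)) g⁻¹, map_mul ρ g, h, ← map_mul, ← map_mul]⟩⟩
      have hqA : q ∈ A := by
        refine ⟨Q.mul_mem (Q.inv_mem u.out.2) u'.out.2, fun x hx => ?_⟩
        have h1 := hχ u ⟨x, hx⟩
        have h2 := hχ u' ⟨x, hx⟩
        rw [← congrFun huu ⟨x, hx⟩] at h2
        set c := χ u ⟨x, hx⟩
        set a := ((u.out : Q) : H)
        set a' := ((u'.out : Q) : H)
        have e1 : ρ x⁻¹ * ρ x = 1 := by rw [← map_mul, inv_mul_cancel, map_one]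
        have e2 : ρ a⁻¹ * ρ a = 1 := by rw [← map_mul, inv_mul_cancel, map_one]
        have e3 : ρ a * ρ a⁻¹ = 1 := by rw [← map_mul, mul_inv_cancel, map_one]
        have h1' : ρ x * ρ a = c • (ρ a * ρ x) := by
          rw [← smul_mul_assoc, ← h1, mul_assoc _ (ρ x⁻¹), e1, mul_one]
        have h2' : ρ x * ρ a' = c • (ρ a' * ρ x) := by
          rw [← smul_mul_assoc, ← h2, mul_assoc _ (ρ x⁻¹), e1, mul_one]
        have h3 : c • (ρ x * ρ a⁻¹) = ρ a⁻¹ * ρ x := by
          calc c • (ρ x * ρ a⁻¹) = ρ a⁻¹ * (c • (ρ a * ρ x)) * ρ a⁻¹ := by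
                rw [mul_smul_comm, smul_mul_assoc, ← mul_assoc, e2, one_mul]
            _ = ρ a⁻¹ * ρ x := by rw [← h1', mul_assoc, mul_assoc, e3, mul_one]
        rw [map_mul]
        calc ρ x * (ρ a⁻¹ * ρ a') = ρ x * ρ a⁻¹ * ρ a' := (mul_assoc _ _ _).symm
          _ = ρ a⁻¹ * ρ a' * ρ x := by
            rcases eq_or_ne c 0 with h0 | h0
            · rw [h0, zero_smul] at h1'
              exact absurd (by rw [map_mul]; exact h1') (rho_ne_zero ρ (x * a))
            · rw [← inv_smul_smul₀ h0 (ρ x * ρ a⁻¹), h3, smul_mul_assoc, mul_assoc, h2',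
                mul_smul_comm, inv_smul_smul₀ h0, mul_assoc]
      have hqs : q ∈ scalars ρ :=
        habel A hAn (fun y hy y' hy' => hy'.2 y hy.1) hqA
      rw [← QuotientGroup.out_eq' u, ← QuotientGroup.out_eq' u', QuotientGroup.eq,
        Subgroup.mem_subgroupOf]
      exact hqs)
    (fun u => rho_ne_zero ρ _) (fun u x => by
      simp only [conjOp, LinearMap.comp_apply, LinearMap.mulLeft_apply, LinearMap.mulRight_apply,
        ← mul_assoc]
      exact hχ u x)
  haveI := hUfin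
  rw [Module.finrank_linearMap, hn] at hUle
  -- the linear action
  letI : CommGroup U := { (inferInstance : Group U) with mul_comm := hUc }
  haveI : Module (ZMod s) (Additive U) := AddCommGroup.zmodModule fun x =>
    Additive.toMul.injective (by rw [toMul_nsmul, toMul_zero]; exact hUs _)
  haveI : Module.Finite (ZMod s) (Additive U) := Module.Finite.of_finite
  let cj : H → (U →* U) := fun h => QuotientGroup.map Z Z (MulAut.conjNormal h).toMonoidHom
    (fun q hq => by
      rw [Subgroup.mem_comap, Subgroup.mem_subgroupOf, MulEquiv.coe_toMonoidHom,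
        MulAut.conjNormal_apply]
      exact (scalars_normal ρ).conj_mem q hq h)
  let θ₀ : H → Module.End (ZMod s) (Additive U) :=
    fun h => (MonoidHom.toAdditive (cj h)).toZModLinearMap s
  have hex' : ∀ x : Additive U, ∃ q : Q, Additive.ofMul (q : U) = x := fun x =>
    ⟨_, congrArg Additive.ofMul (QuotientGroup.out_eq' x.toMul)⟩
  have h10 : θ₀ 1 = 1 := LinearMap.ext fun x => by
    obtain ⟨q, rfl⟩ := hex' x
    have A1 : θ₀ 1 (Additive.ofMul (q : U)) = Additive.ofMul (cj 1 (q : U)) := rfl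
    have A2 : cj 1 (q : U) = (((MulAut.conjNormal (1 : H)) q : Q) : U) := rfl
    rw [A1, A2, map_one, MulAut.one_apply]
    exact (Module.End.one_apply _).symm
  have hm0 : ∀ g h, θ₀ (g * h) = θ₀ g * θ₀ h := fun g h => LinearMap.ext fun x => by
    obtain ⟨q, rfl⟩ := hex' x
    show Additive.ofMul (((MulAut.conjNormal (g * h)) q : Q) : U) =
      Additive.ofMul ((MulAut.conjNormal g (MulAut.conjNormal h q) : Q) : U)
    rw [map_mul]; rfl
  let θ : H →* Module.End (ZMod s) (Additive U) := ⟨⟨θ₀, h10⟩, hm0⟩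
  have hθker : θ.ker ≤ π.ker := by
    refine (hN θ.ker inferInstance).resolve_right fun htop => hQs fun q hq => ?_
    refine mem_scalars_of_commute ρ hirr fun h => ?_
    have hex : ∀ h : H, ∃ c : K, ρ h * ρ q = c • (ρ q * ρ h) := by
      intro h
      have h1 : θ h = 1 := (htop ▸ Subgroup.mem_top h : h ∈ θ.ker)
      have h2 : Additive.ofMul ((MulAut.conjNormal h ⟨q, hq⟩ : Q) : U) =
          Additive.ofMul ((⟨q, hq⟩ : Q) : U) :=
        (LinearMap.congr_fun h1 (Additive.ofMul ((⟨q, hq⟩ : Q) : U))).trans (Module.End.one_apply _)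
      have h3 := QuotientGroup.eq.1 (Additive.ofMul.injective h2)
      rw [Subgroup.mem_subgroupOf, Subgroup.coe_mul, Subgroup.coe_inv,
        MulAut.conjNormal_apply] at h3
      obtain ⟨c, hc⟩ := (mem_scalars ρ).1 ((scalars ρ).inv_mem h3)
      refine ⟨c, ?_⟩
      rw [← map_mul, ← map_mul,
        show h * q = q * (((h * q * h⁻¹)⁻¹ * q)⁻¹ * h) by group, map_mul, map_mul, hc,
        smul_mul_assoc, one_mul, mul_smul_comm, map_mul]
    choose c hc using hex
    have huniq : ∀ (a : H) (x y : K), x • ρ a = y • ρ a → x = y := fun a x y hxy => by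
      by_contra hne
      exact rho_ne_zero ρ a ((smul_eq_zero.1 (show (x - y) • ρ a = 0 by
        rw [sub_smul, hxy, sub_self])).resolve_left (sub_ne_zero.2 hne))
    let Φ : H →* K :=
      { toFun := c
        map_one' := huniq q _ _ (by
          have h1 := hc 1
          rw [map_one, one_mul, mul_one] at h1
          rw [one_smul]; exact h1.symm)
        map_mul' := fun g g' => huniq (q * (g * g')) _ _ (by
          rw [map_mul, ← hc, map_mul, mul_assoc, hc g', mul_smul_comm, ← mul_assoc, hc g,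
            smul_mul_assoc, smul_smul, mul_assoc, mul_comm (c g)]) }
    have hΦ : Φ.toHomUnits.ker = ⊤ := by
      rw [eq_top_iff, ← hperf]
      exact Abelianization.commutator_subset_ker _
    have h1 : c h = 1 := congrArg Units.val
      (show Φ.toHomUnits h = 1 from (hΦ ▸ Subgroup.mem_top h : h ∈ Φ.toHomUnits.ker))
    rw [hc h, h1, one_smul]
  set d := finrank (ZMod s) (Additive U)
  have hcardU : Nat.card U = s ^ d := by
    rw [← Nat.card_congr (Additive.ofMul (α := U)).symm, Module.natCard_eq_pow_finrank (K := ZMod s),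
      Nat.card_zmod]
  rw [hcardU] at hUle
  have hb : 12 - 1 - (if s ∣ 12 then 1 else 0) ≤ d := by
    let b := Module.finBasis (ZMod s) (Additive U)
    let f : Module.End (ZMod s) (Additive U) →* Module.End (AlgebraicClosure (ZMod s))
        (Fin d → AlgebraicClosure (ZMod s)) :=
      (Matrix.toLinAlgEquiv' (R := AlgebraicClosure (ZMod s))
          (n := Fin d)).toAlgHom.toRingHom.toMonoidHom.comp
        ((algebraMap (ZMod s) (AlgebraicClosure (ZMod s))).mapMatrix.toMonoidHom.comp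
          (LinearMap.toMatrixAlgEquiv b).toAlgHom.toRingHom.toMonoidHom)
    have hf : Function.Injective f :=
      (Matrix.toLinAlgEquiv' (R := AlgebraicClosure (ZMod s)) (n := Fin d)).injective.comp
        ((Matrix.map_injective (algebraMap (ZMod s) (AlgebraicClosure (ZMod s))).injective).comp
          (LinearMap.toMatrixAlgEquiv b).injective)
    refine AltSection.good 12 (by norm_num) d s (AlgebraicClosure (ZMod s)) H π _ (f.comp θ) hπ
      (fun h hh => hθker ?_) (Module.finrank_fin_fun _)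
    rw [MonoidHom.mem_ker] at hh ⊢
    exact hf (by rw [map_one]; exact hh)
  have h1 : 2 ^ 10 ≤ s ^ d :=
    le_trans (Nat.pow_le_pow_right (by norm_num) (show 10 ≤ d by split_ifs at hb <;> omega))
      (Nat.pow_le_pow_left (Fact.out : s.Prime).two_le d)
  have h2 : n * n ≤ 27 * 27 := Nat.mul_le_mul h27 h27
  have h3 := h1.trans hUle
  norm_num at h3
  omega

theorem finrank_biSup_le {K V : Type} [Field K] [AddCommGroup V] [Module K V] [FiniteDimensional K V]
    {Y : Type} (s : Finset Y) (W : Y → Submodule K V) {D : ℕ}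
    (hD : ∀ y ∈ s, finrank K (W y) ≤ D) : finrank K ↥(⨆ y ∈ s, W y) ≤ s.card * D := by
  classical
  induction s using Finset.induction_on with
  | empty => simp
  | @insert a t hat ih =>
    rw [Finset.card_insert_of_notMem hat, Finset.iSup_insert, add_mul, one_mul]
    refine (Submodule.finrank_add_le_finrank_add_finrank _ _).trans ?_
    have := hD a (Finset.mem_insert_self _ _)
    have := ih fun y hy => hD y (Finset.mem_insert_of_mem hy)
    omega

theorem fix_seven : ∀ f : Fin 12, (s7 : Perm (Fin 12)) f = f →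
    ∃ g : alternatingGroup (Fin 12), g * s7 = s7 ^ 3 * g ∧ (g : Perm (Fin 12)) f = f := by
  intro f hf
  have hf' : f = 7 ∨ f = 8 ∨ f = 9 ∨ f = 10 ∨ f = 11 := by
    revert hf; revert f; decide +kernel
  rcases hf' with rfl | rfl | rfl | rfl | rfl
  all_goals first
    | exact ⟨⟨swap 1 3 * swap 3 2 * swap 2 6 * swap 6 4 * swap 4 5 * swap 8 9,
        mem_alternatingGroup.2 (by decide)⟩, by decide +kernel, by decide +kernel⟩
    | exact ⟨⟨swap 1 3 * swap 3 2 * swap 2 6 * swap 6 4 * swap 4 5 * swap 10 11,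
        mem_alternatingGroup.2 (by decide)⟩, by decide +kernel, by decide +kernel⟩

theorem fix_eleven : ∀ f : Fin 12, (s11 : Perm (Fin 12)) f = f →
    ∃ g : alternatingGroup (Fin 12), g * s11 = s11 ^ 3 * g ∧ (g : Perm (Fin 12)) f = f := by
  intro f hf
  have hf' : f = 11 := by revert hf; revert f; decide +kernel
  subst hf'
  exact ⟨⟨swap 1 3 * swap 3 9 * swap 9 5 * swap 5 4 * (swap 2 6 * swap 6 7 * swap 7 10 * swap 10 8),
    mem_alternatingGroup.2 (by decide)⟩, by decide +kernel, by decide +kernel⟩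

theorem moved_seven : (s7 : Perm (Fin 12)) 0 ≠ 0 ∧ ∀ i : Fin 12, (s7 : Perm (Fin 12)) i ≠ i →
    ∃ j : Fin 7, ((s7 : Perm (Fin 12)) ^ (j : ℕ)) 0 = i := by decide +kernel

theorem moved_eleven : (s11 : Perm (Fin 12)) 0 ≠ 0 ∧ ∀ i : Fin 12, (s11 : Perm (Fin 12)) i ≠ i →
    ∃ j : Fin 11, ((s11 : Perm (Fin 12)) ^ (j : ℕ)) 0 = i := by decide +kernel

/-- The monomial case. -/
theorem monomial12 {H : Type} [Group H] [Finite H]
    {π : H →* alternatingGroup (Fin 12)} (hπ : Function.Surjective π)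
    (hL : ∀ L : Subgroup H, L.map π = ⊤ → L = ⊤)
    {K V : Type} [Field K] [IsAlgClosed K] [AddCommGroup V] [Module K V] [FiniteDimensional K V]
    [Nontrivial V] (h27 : finrank K V ≤ 27) (ρ : H →* Module.End K V)
    (hirr : ∀ W : Submodule K V, (∀ h, ∀ v ∈ W, ρ h v ∈ W) → W = ⊥ ∨ W = ⊤)
    {ℓ : ℕ} [Fact ℓ.Prime] {σ : alternatingGroup (Fin 12)} (hc : Case ℓ σ) (hℓK : (ℓ : K) ≠ 0)
    {x : H} (hx : π x = σ) (hxℓ : x ^ ℓ = 1)
    (hnx : ∀ g, g * σ = σ ^ 3 * g → ∃ h, π h = g ∧ h * x = x ^ 3 * h)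
    (A : Subgroup H) [A.Normal] (hA : ∀ a ∈ A, ∀ b ∈ A, ρ a * ρ b = ρ b * ρ a)
    (hAs : ¬ A ≤ scalars ρ) :
    ∃ M, 1 ≤ M ∧ 10 * M ≤ finrank K V ∧
      finrank K (LinearMap.range (ρ x - 1)) ≤ (ℓ - 1) * M := by
  classical
  let X := {c : A → K // ∃ v : V, v ≠ 0 ∧ ∀ a : A, ρ a v = c a • v}
  obtain ⟨hfin, -⟩ := eigen_count (X := X) (fun a : A => ρ a) (fun x => x.2.choose) (fun x => x.1)
    Subtype.val_injective (fun x => x.2.choose_spec.1) fun x => x.2.choose_spec.2
  haveI := hfin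
  haveI := Fintype.ofFinite X
  let W : X → Submodule K V := fun c => ⨅ a : A, (ρ a).eigenspace (c.1 a)
  have hmem : ∀ c u, u ∈ W c ↔ ∀ a : A, ρ a u = c.1 a • u := fun c u => by
    simp [W, Submodule.mem_iInf, Module.End.mem_eigenspace_iff]
  have hconj : ∀ (h : H) (c : X) (u : V), u ∈ W c → ∀ a : A,
      ρ a (ρ h u) = c.1 ⟨h⁻¹ * a * h, ‹A.Normal›.conj_mem' (a : H) a.2 h⟩ • ρ h u := by
    intro h c u hu a
    rw [← Module.End.mul_apply, ← map_mul, show (a : H) * h = h * (h⁻¹ * a * h) by group, map_mul,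
      Module.End.mul_apply, (hmem c u).1 hu ⟨_, ‹A.Normal›.conj_mem' (a : H) a.2 h⟩, map_smul]
  have hact : ∀ (h : H) (c : X), ∃ v : V, v ≠ 0 ∧
      ∀ a : A, ρ a v = c.1 ⟨h⁻¹ * a * h, ‹A.Normal›.conj_mem' (a : H) a.2 h⟩ • v := by
    intro h c
    obtain ⟨v, hv0, hv⟩ := c.2
    exact ⟨ρ h v, fun e => hv0 (rho_injective_apply ρ h (e.trans (map_zero _).symm)),
      hconj h c v ((hmem c v).2 hv)⟩
  letI : MulAction H X :=
    { smul := fun h c => ⟨_, hact h c⟩
      one_smul := fun c => Subtype.ext (funext fun a => congrArg c.1 (Subtype.ext (by simp)))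
      mul_smul := fun g h c =>
        Subtype.ext (funext fun a => congrArg c.1 (Subtype.ext (by simp [mul_assoc]))) }
  have hmap : ∀ (h : H) (c : X), ∀ u ∈ W c, ρ h u ∈ W (h • c) := fun h c u hu =>
    (hmem _ _).2 (hconj h c u hu)
  haveI := Fintype.ofFinite A
  obtain ⟨v₀, -, hv₀, hv⟩ := exists_common_eigenvec (Finset.univ : Finset A) (fun a : A => ρ a)
    (fun a b => hA a a.2 b b.2) ⊤ top_ne_bot fun _ _ _ _ => Submodule.mem_top
  choose μ hμ using fun a : A => hv a (Finset.mem_univ a)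
  let x₀ : X := ⟨μ, v₀, hv₀, hμ⟩
  set D := finrank K (W x₀)
  have hD1 : 1 ≤ D := Nat.one_le_iff_ne_zero.2 fun h0 => hv₀ (by
    have : v₀ ∈ W x₀ := (hmem _ _).2 hμ
    rwa [Submodule.finrank_eq_zero.1 h0, Submodule.mem_bot] at this)
  let Y := MulAction.orbit H x₀
  haveI : Fintype Y := Fintype.ofFinite _
  have hdim : ∀ y : Y, finrank K (W y.1) = D := by
    rintro ⟨-, h, rfl⟩
    have key : ∀ (g : H) (c : X), finrank K (W c) ≤ finrank K (W (g • c)) := fun g c =>
      LinearMap.finrank_le_finrank_of_injective (f := (ρ g).restrict (hmap g c))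
        fun p q e => Subtype.ext (rho_injective_apply ρ g (congrArg Subtype.val e))
    refine le_antisymm ?_ (key h x₀)
    have := key h⁻¹ (h • x₀)
    rwa [inv_smul_smul] at this
  have hcount : Fintype.card Y * D ≤ finrank K V :=
    card_mul_le_finrank (fun a : A => ρ a) (fun y : Y => y.1.1)
      (fun y y' h => Subtype.ext (Subtype.ext h)) (fun y => W y.1)
      (fun y u hu => (hmem _ _).1 hu) fun y => (hdim y).ge
  have htop : (⨆ y : Y, W y.1) = ⊤ := by
    refine (hirr _ fun h v hv => ?_).resolve_left fun h0 => hv₀ ?_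
    · have hle : (⨆ y : Y, W y.1).map (ρ h) ≤ ⨆ y : Y, W y.1 := by
        rw [Submodule.map_iSup]
        refine iSup_le fun y => ?_
        rintro _ ⟨u, hu, rfl⟩
        exact Submodule.mem_iSup_of_mem (⟨h • y.1, MulAction.mem_orbit_of_mem_orbit h y.2⟩ : Y)
          (hmap h y.1 u hu)
      exact hle ⟨v, hv, rfl⟩
    · have : v₀ ∈ ⨆ y : Y, W y.1 :=
        Submodule.mem_iSup_of_mem (⟨x₀, MulAction.mem_orbit_self _⟩ : Y) ((hmem _ _).2 hμ)
      rwa [h0, Submodule.mem_bot] at this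
  -- the block map
  set S := MulAction.stabilizer H x₀
  have hSi : S.index = Fintype.card Y := by
    rw [MulAction.index_stabilizer, ← Nat.card_coe_set_eq, Nat.card_eq_fintype_card]
  have hidx : (S.map π).index ≤ 27 := by
    have h1 := Nat.le_of_dvd (by rw [hSi]; exact Fintype.card_pos_iff.2 ⟨⟨x₀, MulAction.mem_orbit_self _⟩⟩)
      (Subgroup.index_map_dvd S hπ)
    have h2 : Fintype.card Y * 1 ≤ Fintype.card Y * D := Nat.mul_le_mul_left _ hD1
    omega
  obtain hI | ⟨f₀, hf₀⟩ := index_small _ hidx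
  · exfalso
    refine hAs fun a ha => ⟨μ ⟨a, ha⟩, LinearMap.ext fun u => ?_⟩
    have hS : ∀ h : H, h • x₀ = x₀ := fun h =>
      MulAction.mem_stabilizer_iff.1 ((hL S hI).symm ▸ Subgroup.mem_top h : h ∈ S)
    have hone : (⨆ y : Y, W y.1) ≤ W x₀ := iSup_le fun y => by
      obtain ⟨h, hh⟩ := y.2
      rw [← hh]; exact le_of_eq (congrArg W (hS h))
    have hu : u ∈ W x₀ := hone (htop ▸ Submodule.mem_top)
    rw [(hmem _ _).1 hu ⟨a, ha⟩]; rfl
  choose hy hhy using fun y : Y => y.2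
  let β : Y → Fin 12 := fun y => (π (hy y) : Perm (Fin 12)) f₀
  have hβ : ∀ (y : Y) (h : H), h • x₀ = y.1 → β y = (π h : Perm (Fin 12)) f₀ := by
    intro y h hh
    have hs : h⁻¹ * hy y ∈ S := by
      show (h⁻¹ * hy y) • x₀ = x₀
      rw [mul_smul, show hy y • x₀ = y.1 from hhy y, ← hh, inv_smul_smul]
    have := hf₀ _ ⟨_, hs, rfl⟩
    rw [map_mul, map_inv, Subgroup.coe_mul, Subgroup.coe_inv, Perm.mul_apply,
      Perm.inv_eq_iff_eq] at this
    exact this
  let act : H → Y → Y := fun h y => ⟨h • y.1, MulAction.mem_orbit_of_mem_orbit h y.2⟩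
  have hβa : ∀ h y, β (act h y) = (π h : Perm (Fin 12)) (β y) := by
    intro h y
    rw [hβ (act h y) (h * hy y) (by rw [mul_smul, show hy y • x₀ = y.1 from hhy y]), map_mul,
      Subgroup.coe_mul, Perm.mul_apply]
  let Fib : Fin 12 → Finset Y := fun i => Finset.univ.filter fun y => β y = i
  have hFib : ∀ {i y}, y ∈ Fib i ↔ β y = i := fun {i y} => by simp [Fib]
  set e := (Fib f₀).card
  have hFcard : ∀ i, (Fib i).card = e := by
    intro i
    obtain ⟨g, hg⟩ := exists_even_map (α := Fin 12) (m := 1) (by rw [Fintype.card_fin]; omega)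
      ![f₀] ![i] (fun _ _ _ => Subsingleton.elim _ _) (fun _ _ _ => Subsingleton.elim _ _)
    obtain ⟨h, rfl⟩ := hπ g
    have hg0 : (π h : Perm (Fin 12)) f₀ = i := hg 0
    refine (Finset.card_bij' (fun y _ => act h y) (fun y _ => act h⁻¹ y) (fun y hy' => ?_)
      (fun y hy' => ?_) (fun y _ => Subtype.ext (inv_smul_smul h y.1))
      (fun y _ => Subtype.ext (smul_inv_smul h y.1))).symm
    · rw [hFib] at hy' ⊢; rw [hβa, hy', hg0]
    · rw [hFib] at hy' ⊢
      rw [hβa, hy', map_inv, Subgroup.coe_inv, Perm.inv_eq_iff_eq]; exact hg0.symm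
  have he1 : 1 ≤ e := Finset.card_pos.2
    ⟨⟨x₀, MulAction.mem_orbit_self _⟩, hFib.2 ((hβ _ 1 (one_smul _ _)).trans (by simp))⟩
  have hY : Fintype.card Y = 12 * e := by
    rw [← Finset.card_univ, Finset.card_eq_sum_card_fiberwise
      (f := β) (t := Finset.univ) fun _ _ => Finset.mem_univ _]
    show ∑ i, (Fib i).card = _
    simp [hFcard]
  have heD : 12 * (e * D) ≤ finrank K V := by rw [← mul_assoc, ← hY]; exact hcount
  refine ⟨e * D, Nat.one_le_iff_ne_zero.2 (Nat.mul_ne_zero (by omega) (by omega)), by omega, ?_⟩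
  set T := ρ x
  have hTℓ : T ^ ℓ = 1 := by rw [← map_pow, hxℓ, map_one]
  obtain ⟨ζ, hζ⟩ := exists_root (K := K) hℓK
  have hℓ : ℓ = 7 ∨ ℓ = 11 := hc.imp And.left And.left
  -- the fixed points
  have hfix : ∀ y : Y, (σ : Perm (Fin 12)) (β y) = β y → ∀ u ∈ W y.1, T u = u := by
    intro y hy u hu
    set i := β y with hi
    obtain ⟨g, hg, hgi⟩ : ∃ g, g * σ = σ ^ 3 * g ∧ (g : Perm (Fin 12)) i = i := by
      rcases hc with ⟨-, rfl⟩ | ⟨-, rfl⟩
      · exact fix_seven i hy
      · exact fix_eleven i hy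
    obtain ⟨h, rfl, hh⟩ := hnx g hg
    let U : Submodule K V := ⨆ z ∈ Fib i, W z.1
    have hinv : ∀ k : H, (π k : Perm (Fin 12)) i = i → ∀ v ∈ U, ρ k v ∈ U := by
      intro k hk v hv
      have hle : U.map (ρ k) ≤ U := by
        simp only [U, Submodule.map_iSup]
        refine iSup₂_le fun z hz => ?_
        rintro _ ⟨w, hw, rfl⟩
        exact Submodule.mem_iSup_of_mem (act k z) (Submodule.mem_iSup_of_mem
          (hFib.2 (by rw [hβa, hFib.1 hz, hk])) (hmap k z.1 w hw))
      exact hle ⟨v, hv, rfl⟩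
    refine fix_of_small hℓ hζ hℓK hTℓ (S := ρ h) (S' := ρ h⁻¹)
      (by rw [← map_mul, inv_mul_cancel, map_one])
      (by rw [← map_pow, ← map_mul, ← map_mul, hh]) U (hinv x (by rw [hx]; exact hy))
      (hinv h hgi) ?_ u (Submodule.mem_iSup_of_mem y (Submodule.mem_iSup_of_mem (hFib.2 hi.symm) hu))
    have := finrank_biSup_le (Fib i) (fun z : Y => W z.1) (D := D) fun z _ => (hdim z).le
    rw [hFcard] at this
    have h27' : e * D ≤ 2 := by omega
    exact this.trans (h27'.trans (by norm_num))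
  -- the moved points
  let Z : Submodule K V := ⨆ q ∈ Fib 0 ×ˢ (Finset.range (ℓ - 1)),
    (W q.1.1).map ((T - 1) * T ^ q.2)
  have hZ : LinearMap.range (T - 1) ≤ Z := by
    rw [LinearMap.range_eq_map, ← htop, Submodule.map_iSup]
    refine iSup_le fun y => ?_
    rintro _ ⟨u, hu, rfl⟩
    by_cases hy' : (σ : Perm (Fin 12)) (β y) = β y
    · rw [LinearMap.sub_apply, Module.End.one_apply, hfix y hy' u hu, sub_self]
      exact Z.zero_mem
    obtain ⟨j, hj⟩ : ∃ j : Fin ℓ, ((σ : Perm (Fin 12)) ^ (j : ℕ)) 0 = β y := by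
      rcases hc with ⟨rfl, rfl⟩ | ⟨rfl, rfl⟩
      · exact moved_seven.2 _ hy'
      · exact moved_eleven.2 _ hy'
    set r : Y := act (x ^ (j : ℕ))⁻¹ y
    have hr : r ∈ Fib 0 := by
      rw [hFib, hβa, map_inv, map_pow, hx, Subgroup.coe_inv, Subgroup.coe_pow, Perm.inv_eq_iff_eq, hj]
    set w := ρ (x ^ (j : ℕ))⁻¹ u
    have hw : w ∈ W r.1 := hmap _ _ u hu
    have hu' : u = (T ^ (j : ℕ)) w := by
      rw [← map_pow, ← Module.End.mul_apply, ← map_mul, mul_inv_cancel, map_one, Module.End.one_apply]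
    have hgen : ∀ i < ℓ - 1, ((T - 1) * T ^ i) w ∈ Z := fun i hi =>
      Submodule.mem_iSup_of_mem (r, i) (Submodule.mem_iSup_of_mem
        (Finset.mem_product.2 ⟨hr, Finset.mem_range.2 hi⟩) ⟨w, hw, rfl⟩)
    rw [hu', ← Module.End.mul_apply]
    rcases Nat.lt_or_ge (j : ℕ) (ℓ - 1) with hlt | hge
    · exact hgen _ hlt
    · have hjℓ : (j : ℕ) = ℓ - 1 := by have := j.isLt; omega
      have hsum : ∑ i ∈ Finset.range ℓ, (T - 1) * T ^ i = 0 := by
        rw [← Finset.mul_sum, mul_geom_sum, hTℓ, sub_self]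
      have hℓ1 : ℓ = ℓ - 1 + 1 := by omega
      rw [hℓ1, Finset.sum_range_succ, add_eq_zero_iff_eq_neg'] at hsum
      rw [hjℓ, hsum, LinearMap.neg_apply, LinearMap.sum_apply]
      exact Z.neg_mem (Submodule.sum_mem _ fun i hi => hgen i (Finset.mem_range.1 hi))
  refine (Submodule.finrank_mono hZ).trans ((finrank_biSup_le _ _ (D := D) fun q _ =>
    (Submodule.finrank_map_le _ _).trans (hdim q.1).le).trans ?_)
  rw [Finset.card_product, hFcard, Finset.card_range]
  exact le_of_eq (by ring)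

end CfsgLib.AltE6
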