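import Cfsg.Agent.AltSection.Reduce
import Cfsg.Agent.AltE6.Common

/-!
In degree at most twenty-seven, disjoint three-cycles of the double cover or of the alternating group
of degree twelve have orthogonal images.
-/

set_option autoImplicit false

namespace CfsgLib.AltE6

open Equiv Equiv.Perm Module CfsgLib.BPres CfsgLib.AltSection

variable {H : Type} [Group H] {C : Cover 12 H} {K V : Type} [Field K] [AddCommGroup V] [Module K V]

theorem cyc_comm {x y z x' y' z' : Fin 12} (hxy : x ≠ y) (hxz : x ≠ z) (hxy' : x' ≠ y')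
    (hxz' : x' ≠ z') (hd : ∀ w, w = x ∨ w = y ∨ w = z → w ≠ x' ∧ w ≠ y' ∧ w ≠ z') :
    Commute (cyc x' y' z') (cyc x y z) := by
  have hfix : ∀ {w : Fin 12}, w ≠ x' ∧ w ≠ y' ∧ w ≠ z' → (cyc x' y' z' : Perm (Fin 12)) w = w :=
    fun h => cyc_apply_of_ne hxy' hxz' h.1 h.2.1 h.2.2
  have h := cyc_conj (cyc x' y' z') (a := x) (b := y) (i := z) hxy hxz
  rw [hfix (hd x (Or.inl rfl)), hfix (hd y (Or.inr (Or.inl rfl))),
    hfix (hd z (Or.inr (Or.inr rfl))), mul_inv_eq_iff_eq_mul] at h
  exact h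

theorem double_apply {a b i j : Fin 12} (hab : a ≠ b) (hai : a ≠ i) (haj : a ≠ j) (hbi : b ≠ i)
    (hbj : b ≠ j) (hij : i ≠ j) (g : alternatingGroup (Fin 12))
    (hg : g = cyc a b i * cyc a b j) :
    (g : Perm (Fin 12)) a = i ∧ (g : Perm (Fin 12)) i = a ∧ (g : Perm (Fin 12)) b = j ∧
      (g : Perm (Fin 12)) j = b ∧
      ∀ w, w ≠ a → w ≠ b → w ≠ i → w ≠ j → (g : Perm (Fin 12)) w = w := by
  subst hg
  simp only [Subgroup.coe_mul, Perm.mul_apply]
  refine ⟨?_, ?_, ?_, ?_, fun w h1 h2 h3 h4 => ?_⟩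
  · rw [cyc_apply_a hab haj hbj, cyc_apply_b hab hai]
  · rw [cyc_apply_of_ne hab haj hai.symm hbi.symm hij, cyc_apply_i hab hai hbi]
  · rw [cyc_apply_b hab haj, cyc_apply_of_ne hab hai haj.symm hbj.symm hij.symm]
  · rw [cyc_apply_i hab haj hbj, cyc_apply_a hab hai hbi]
  · rw [cyc_apply_of_ne hab haj h1 h2 h4, cyc_apply_of_ne hab hai h1 h2 h3]

theorem four_inj {a b i j : Fin 12} (h : [a, b, i, j].Nodup) :
    a ≠ b ∧ a ≠ i ∧ a ≠ j ∧ b ≠ i ∧ b ≠ j ∧ i ≠ j := by
  simp only [List.nodup_cons, List.mem_cons, List.not_mem_nil, or_false, not_or,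
    not_false_eq_true, List.nodup_nil, and_true] at h
  tauto

/-- Commutators of products of anticommuting pairs. -/
theorem mul_three_flip {G : Type*} [Group G] {a b c a' b' c' z : G} (hz : ∀ g, Commute z g)
    (hz2 : z * z = 1) (ha : a' * a = a * a' * z) (hb : b' * b = b * b' * z)
    (hc : c' * c = c * c' * z) (h1 : Commute b' a) (h2 : Commute c' a) (h3 : Commute c' b)
    (h4 : Commute a' b) (h5 : Commute a' c) (h6 : Commute b' c) :
    a' * b' * c' * (a * b * c) = a * b * c * (a' * b' * c') * z := by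
  calc a' * b' * c' * (a * b * c) = a' * b' * (c' * a) * b * c := by simp only [mul_assoc]
    _ = a' * (b' * a) * (c' * b) * c := by rw [h2.eq]; simp only [mul_assoc]
    _ = a' * a * (b' * b) * (c' * c) := by rw [h1.eq, h3.eq]; simp only [mul_assoc]
    _ = a * a' * b * b' * c * c' * (z * z * z) := by
      rw [ha, hb, hc]
      simp only [mul_assoc, (hz _).left_comm, (hz _).eq]
    _ = a * (a' * b) * b' * c * c' * z := by rw [hz2, one_mul]; simp only [mul_assoc]
    _ = a * b * (a' * (b' * c)) * c' * z := by rw [h4.eq]; simp only [mul_assoc]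
    _ = a * b * (a' * c) * b' * c' * z := by rw [h6.eq]; simp only [mul_assoc]
    _ = a * b * c * (a' * b' * c') * z := by rw [h5.eq]; simp only [mul_assoc]

section Quad

variable {A : Type*} [Ring A] [Algebra K A]

/-- Two quadratic operators of order three with product of order two. -/
theorem quad_eq_sq (h2 : (2 : K) ≠ 0) {a b : A} (ha3 : a * a * a = 1) (hb3 : b * b * b = 1)
    (ha : a * a + a + 1 = 0) (hb : b * b + b + 1 = 0) (hab : a * b * a * b = 1) : b = a * a := by
  have hAA : a * a = -(a + 1) := eq_neg_of_add_eq_zero_left (by rw [← add_assoc]; exact ha)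
  have hBB : b * b = -(b + 1) := eq_neg_of_add_eq_zero_left (by rw [← add_assoc]; exact hb)
  have e1 : a * b = b * b * (a * a) := by
    calc a * b = a * b * ((a * ((b * b * b) * a * a))) := by
          rw [hb3, one_mul, ← mul_assoc a a a, ha3, mul_one]
      _ = a * b * a * b * (b * b * (a * a)) := by simp only [mul_assoc]
      _ = b * b * (a * a) := by rw [hab, one_mul]
  have hBA : b * a * b * a = 1 := by
    calc b * a * b * a = a * a * (a * b * a * b) * a := by
          simp only [← mul_assoc]; rw [ha3, one_mul]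
      _ = 1 := by rw [hab, mul_one, ha3]
  have e2 : b * a = a * a * (b * b) := by
    calc b * a = b * a * ((b * ((a * a * a) * b * b))) := by
          rw [ha3, one_mul, ← mul_assoc b b b, hb3, mul_one]
      _ = b * a * b * a * (a * a * (b * b)) := by simp only [mul_assoc]
      _ = a * a * (b * b) := by rw [hBA, one_mul]
  rw [hAA, hBB] at e1 e2
  have h3 : (2 : K) • (b + a + 1) = 0 := by
    rw [two_smul]
    have e1' : a * b = b * a + b + a + 1 := by rw [e1]; noncomm_ring
    have e2' : b * a = a * b + b + a + 1 := by rw [e2]; noncomm_ring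
    rw [e2'] at e1'
    linear_combination (norm := noncomm_ring) -e1'
  have h4 : b + a + 1 = 0 := by
    have := congrArg ((2 : K)⁻¹ • ·) h3
    simpa [smul_smul, inv_mul_cancel₀ h2] using this
  rw [hAA, eq_neg_iff_add_eq_zero, ← add_assoc]
  exact h4

end Quad

theorem odd3 : Odd 3 := by decide

section

variable (R : Rep C K V) (e : Fin 4 × ZMod 3 ↪ Fin 12)

theorem bl_eq (i : Fin 4) :
    blockOp R e odd3 i = R.ρ (C.tl (e (i, 0)) (e (i, 1)) (e (i, 2))) :=
  blockOp_three R e odd3 i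

theorem e_ne {x y : Fin 4 × ZMod 3} (h : x ≠ y) : e x ≠ e y := fun h' => h (e.injective h')

theorem e_ne' {l : Fin 4} {t t' : ZMod 3} (h : t ≠ t') : e (l, t) ≠ e (l, t') :=
  e_ne e fun h' => h (Prod.ext_iff.1 h').2

theorem e_surj (x : Fin 12) : ∃ p, e p = x := by
  have hb : Function.Bijective e :=
    (Fintype.bijective_iff_injective_and_card e).2 ⟨e.injective, by simp⟩
  exact hb.2 x

/-- The complement of the first block. -/
def compl9 : Fin 9 ↪ Fin 12 :=
  ⟨fun t => e (⟨t.val / 3 + 1, by omega⟩, ((t.val % 3 : ℕ) : ZMod 3)), fun s t h => by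
    have h' := Prod.ext_iff.1 (e.injective h)
    simp only [Fin.mk.injEq] at h'
    have h2 := (ZMod.natCast_eq_natCast_iff' _ _ 3).1 h'.2
    exact Fin.ext (by omega)⟩

theorem compl9_ne (t : Fin 9) (s : ZMod 3) : compl9 e t ≠ e (0, s) := fun h => by
  have := congrArg Fin.val (Prod.ext_iff.1 (e.injective h)).1
  simp at this

theorem compl9_surj {x : Fin 12} (hx : ∀ s, e (0, s) ≠ x) : ∃ t, compl9 e t = x := by
  obtain ⟨⟨l, s⟩, rfl⟩ := e_surj e x
  have hl : (l : ℕ) ≠ 0 := fun h => hx s (by rw [show l = 0 from Fin.ext h])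
  have := ZMod.val_lt s
  refine ⟨⟨3 * (l - 1) + s.val, by omega⟩, congrArg e (Prod.ext (Fin.ext ?_) ?_)⟩
  · show (3 * ((l : ℕ) - 1) + s.val) / 3 + 1 = l
    omega
  · show (((3 * ((l : ℕ) - 1) + s.val) % 3 : ℕ) : ZMod 3) = s
    rw [Nat.mul_add_mod, Nat.mod_eq_of_lt this, ZMod.natCast_zmod_val]

/-- The alternating group of the complement inside the whole one. -/
noncomputable def alt9 : alternatingGroup (Fin 9) →* alternatingGroup (Fin 12) :=
  ((Perm.viaEmbeddingHom (compl9 e)).comp (alternatingGroup (Fin 9)).subtype).codRestrict _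
    fun g => by
      rw [mem_alternatingGroup]
      show Perm.sign (Perm.viaEmbedding (g : Perm (Fin 9)) (compl9 e)) = 1
      rw [Perm.viaEmbedding]
      refine Eq.trans ?_ (mem_alternatingGroup.1 g.2)
      convert Perm.sign_extendDomain (g : Perm (Fin 9)) _

theorem alt9_injective : Function.Injective (alt9 e) := fun g h hgh =>
  Subtype.ext (Perm.viaEmbeddingHom_injective _ (congrArg Subtype.val hgh))

theorem alt9_apply (g : alternatingGroup (Fin 9)) (t : Fin 9) :
    (alt9 e g : Perm (Fin 12)) (compl9 e t) = compl9 e ((g : Perm (Fin 9)) t) :=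
  Perm.viaEmbedding_apply _ _ _

theorem alt9_fix (g : alternatingGroup (Fin 9)) (s : ZMod 3) :
    (alt9 e g : Perm (Fin 12)) (e (0, s)) = e (0, s) :=
  Perm.viaEmbedding_apply_of_notMem _ _ _ fun ⟨t, ht⟩ => compl9_ne e t s ht

theorem alt9_cyc {x y z : Fin 12} (hxy : x ≠ y) (hxz : x ≠ z) (hyz : y ≠ z)
    (hx : ∀ s, e (0, s) ≠ x) (hy : ∀ s, e (0, s) ≠ y) (hz : ∀ s, e (0, s) ≠ z) :
    cyc x y z ∈ (alt9 e).range := by
  obtain ⟨x, rfl⟩ := compl9_surj e hx
  obtain ⟨y, rfl⟩ := compl9_surj e hy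
  obtain ⟨z, rfl⟩ := compl9_surj e hz
  have h1 : x ≠ y := fun h => hxy (congrArg _ h)
  have h2 : x ≠ z := fun h => hxz (congrArg _ h)
  have h3 : y ≠ z := fun h => hyz (congrArg _ h)
  refine ⟨cyc x y z, Subtype.ext (Equiv.ext fun w => ?_)⟩
  by_cases hw : ∃ t, compl9 e t = w
  · obtain ⟨t, rfl⟩ := hw
    rw [alt9_apply]
    by_cases t1 : t = x
    · subst t1; rw [cyc_apply_a h1 h2 h3, cyc_apply_a hxy hxz hyz]
    by_cases t2 : t = y
    · subst t2; rw [cyc_apply_b h1 h2, cyc_apply_b hxy hxz]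
    by_cases t3 : t = z
    · subst t3; rw [cyc_apply_i h1 h2 h3, cyc_apply_i hxy hxz hyz]
    rw [cyc_apply_of_ne h1 h2 t1 t2 t3, cyc_apply_of_ne hxy hxz ((compl9 e).injective.ne t1)
      ((compl9 e).injective.ne t2) ((compl9 e).injective.ne t3)]
  · push Not at hw
    rw [cyc_apply_of_ne hxy hxz (hw x).symm (hw y).symm (hw z).symm]
    exact Perm.viaEmbedding_apply_of_notMem _ _ _ fun ⟨t, ht⟩ => hw t ht

/-- The preimage of the alternating group of the complement. -/
noncomputable def sub9 : Subgroup H := (alt9 e).range.comap C.π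

/-- Its map onto that group. -/
noncomputable def proj9 : sub9 (C := C) e →* alternatingGroup (Fin 9) :=
  (MonoidHom.ofInjective (alt9_injective e)).symm.toMonoidHom.comp
    ((C.π.comp (sub9 (C := C) e).subtype).codRestrict _ fun h => h.2)

theorem proj9_spec (h : sub9 (C := C) e) : alt9 e (proj9 e h) = C.π h :=
  MonoidHom.apply_ofInjective_symm (alt9_injective e)
    ((C.π.comp (sub9 (C := C) e).subtype).codRestrict _ (fun h => h.2) h)

theorem proj9_surj : Function.Surjective (proj9 (C := C) e) := fun g => by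
  obtain ⟨h, hh⟩ := C.surj (alt9 e g)
  refine ⟨⟨h, ⟨g, hh.symm⟩⟩, alt9_injective e ?_⟩
  rw [proj9_spec, hh]

theorem sub9_fix {h : H} (hh : h ∈ sub9 (C := C) e) (s : ZMod 3) :
    (C.π h : Perm (Fin 12)) (e (0, s)) = e (0, s) := by
  obtain ⟨g, hg⟩ := hh
  rw [← hg, alt9_fix]

theorem sub9_commute {h : H} (hh : h ∈ sub9 (C := C) e) :
    Commute (R.ρ h) (blockOp R e odd3 0) := by
  have h' := C.tl_conj (e_ne' e (show (0 : ZMod 3) ≠ 1 by decide)) (e_ne' e (show (0 : ZMod 3) ≠ 2 by decide))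
    (e_ne' e (show (1 : ZMod 3) ≠ 2 by decide)) h
    (a := e (0, 0)) (b := e (0, 1)) (i := e (0, 2))
  rw [sub9_fix e hh, sub9_fix e hh, sub9_fix e hh, mul_inv_eq_iff_eq_mul] at h'
  rw [bl_eq]
  exact Commute.map (show Commute h _ from h') R.ρ

theorem tl_mem_sub9 {x y z : Fin 12} (hxy : x ≠ y) (hxz : x ≠ z) (hyz : y ≠ z)
    (hx : ∀ s, e (0, s) ≠ x) (hy : ∀ s, e (0, s) ≠ y) (hz : ∀ s, e (0, s) ≠ z) :
    C.tl x y z ∈ sub9 (C := C) e := by
  rw [sub9, Subgroup.mem_comap, C.π_tl hxy hxz hyz]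
  exact alt9_cyc e hxy hxz hyz hx hy hz

/-- The eigenspace of the first block. -/
noncomputable def eig0 (ζ : K) : Submodule K V := LinearMap.ker (blockOp R e odd3 0 - ζ • 1)

theorem mem_eig0 {ζ : K} {v : V} : v ∈ eig0 R e ζ ↔ blockOp R e odd3 0 v = ζ • v := by
  simp [eig0, sub_eq_zero]

theorem eig0_invariant {ζ : K} {h : H} (hh : h ∈ sub9 (C := C) e) :
    ∀ v ∈ eig0 R e ζ, R.ρ h v ∈ eig0 R e ζ := fun v hv => by
  rw [mem_eig0] at hv ⊢
  rw [← Module.End.mul_apply, ← (sub9_commute R e hh).eq, Module.End.mul_apply, hv, map_smul]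

/-- Reversing the first block. -/
theorem exists_reverse : ∃ h : H,
    R.ρ h * blockOp R e odd3 0 = blockOp R e odd3 0 * blockOp R e odd3 0 * R.ρ h := by
  obtain ⟨g, hg⟩ := blockCyc_conj e odd3 (π := 1) (a := ![-1, -1, 1, 1]) (by decide)
  obtain ⟨h, rfl⟩ := C.surj g
  refine ⟨h, ?_⟩
  have h0 := hg 0
  simp only [Perm.one_apply, Matrix.cons_val_zero] at h0
  have e2 : ((-1 : (ZMod 3)ˣ) : ZMod 3).val = 2 := by decide
  rw [e2] at h0
  have h1 := C.lift_conj (odd_orderOf_blockCyc e odd3 0) h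
  rw [h0, C.lift_pow (odd_orderOf_blockCyc e odd3 0), mul_inv_eq_iff_eq_mul] at h1
  rw [blockOp, ← map_mul, h1, pow_two, map_mul, map_mul]

theorem no_supp_three [FiniteDimensional K V] (h27 : finrank K V ≤ 27) {ζ : K}
    (hζ : IsPrimitiveRoot ζ 3) {w : Fin 4 → ZMod 3} (hw : IsWeight (blockOp R e odd3) ζ w) :
    (supp w).card ≠ 3 := fun h => by
  have := choose_mul_le_finrank R e odd3 hζ (by norm_num) exists_chi_three hw
  rw [h] at this
  have e4 : Nat.choose 4 3 * (3 - 1) ^ 3 = 32 := by decide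
  omega

theorem no_supp_two [Finite H] [IsAlgClosed K] [FiniteDimensional K V] {p : ℕ} [Fact p.Prime]
    [CharP K p] (hp3 : p ≠ 3) (h27 : finrank K V ≤ 27) {ζ : K} (hζ : IsPrimitiveRoot ζ 3)
    {w : Fin 4 → ZMod 3} (hw : IsWeight (blockOp R e odd3) ζ w) : (supp w).card ≠ 2 := by
  classical
  intro hc
  set f := blockOp R e odd3 with hf
  have hall : ∀ u : Fin 4 → ZMod 3, (supp u).card = 2 → IsWeight f ζ u := fun u hu =>
    isWeight_of_supp_card R e odd3 hζ (by norm_num) exists_chi_three hw (hc.trans hu.symm)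
  -- the fixed space of the first block
  set F := LinearMap.ker (f 0 - 1)
  have hF : 12 ≤ finrank K F := by
    have hinv : ∀ i, ∀ v ∈ F, f i v ∈ F := fun i v hv => by
      simp only [F, LinearMap.mem_ker, LinearMap.sub_apply, Module.End.one_apply, sub_eq_zero] at hv ⊢
      rw [← Module.End.mul_apply, blockOp_comm, Module.End.mul_apply, hv]
    have hcard : ((Finset.univ : Finset (Fin 4 → ZMod 3)).filter
        fun u => (supp u).card = 2 ∧ u 0 = 0).card = 12 := by decide
    rw [← hcard]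
    refine card_weights_le hζ (fun i => (f i).restrict (hinv i)) _ fun u hu => ?_
    obtain ⟨hu2, hu0⟩ := (Finset.mem_filter.1 hu).2
    obtain ⟨v, hv0, hv⟩ := hall u hu2
    refine ⟨⟨v, ?_⟩, fun h => hv0 (congrArg Subtype.val h), fun i => Subtype.ext (hv i)⟩
    simp only [F, LinearMap.mem_ker, LinearMap.sub_apply, Module.End.one_apply, sub_eq_zero]
    rw [hv 0, hu0]
    simp
  obtain ⟨h, hh⟩ := exists_reverse R e
  have hR := two_halves hζ (T := f 0) (S := R.ρ h) (S' := R.ρ h⁻¹)
    (by rw [← pow_two, ← pow_succ]; exact blockOp_pow R e odd3 0)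
    (by rw [← map_mul, inv_mul_cancel, map_one]) hh
  have hn := LinearMap.finrank_range_add_finrank_ker (f 0 - 1)
  set U := eig0 R e ζ with hU
  have hU7 : finrank K U ≤ 7 := by
    have : finrank K U = finrank K (LinearMap.ker (f 0 - ζ • 1)) := rfl
    have : finrank K F = finrank K (LinearMap.ker (f 0 - 1)) := rfl
    omega
  -- the alternating group of degree nine on the eigenspace
  let ρU : sub9 (C := C) e →* Module.End K U :=
    { toFun := fun x => (R.ρ x).restrict (eig0_invariant R e x.2)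
      map_one' := LinearMap.ext fun v => Subtype.ext (by simp)
      map_mul' := fun x y => LinearMap.ext fun v => Subtype.ext (by simp) }
  obtain ⟨v, hv0, hv⟩ := hall ![1, 1, 0, 0] (by decide)
  have hvU : v ∈ U := (mem_eig0 R e).2 (by
    have := hv 0
    simpa [ZMod.val_one] using this)
  have hq : f 1 v = ζ • v := by
    have := hv 1
    simpa [ZMod.val_one] using this
  by_cases hker : ρU.ker ≤ (proj9 (C := C) e).ker
  · have h9 := AltSection.good 9 le_rfl (finrank K U) p K (sub9 (C := C) e) (proj9 e) U ρU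
      (proj9_surj e) hker rfl
    have hp9 : ¬ p ∣ 9 := fun hd => hp3 ((Nat.prime_dvd_prime_iff_eq Fact.out Nat.prime_three).1
      ((Fact.out : p.Prime).dvd_of_dvd_pow (show p ∣ 3 ^ 2 by norm_num; exact hd)))
    rw [if_neg hp9] at h9
    omega
  · haveI : IsSimpleGroup (alternatingGroup (Fin 9)) :=
      alternatingGroup.isSimpleGroup (by rw [Nat.card_eq_fintype_card, Fintype.card_fin]; omega)
    have htop : ρU.ker.map (proj9 (C := C) e) = ⊤ :=
      ((ρU.normal_ker.map _ (proj9_surj e)).eq_bot_or_eq_top).resolve_left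
        fun h => hker ((Subgroup.map_eq_bot_iff _).1 h)
    have h12 : e (1, 0) ≠ e (1, 1) := e_ne e (by decide)
    have h13 : e (1, 0) ≠ e (1, 2) := e_ne e (by decide)
    have h23 : e (1, 1) ≠ e (1, 2) := e_ne e (by decide)
    set q := C.tl (e (1, 0)) (e (1, 1)) (e (1, 2))
    have hqm : q ∈ sub9 (C := C) e := tl_mem_sub9 e h12 h13 h23
      (fun s => e_ne e (by simp)) (fun s => e_ne e (by simp)) (fun s => e_ne e (by simp))
    obtain ⟨k, hk, hkq⟩ : proj9 e ⟨q, hqm⟩ ∈ ρU.ker.map (proj9 (C := C) e) :=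
      htop ▸ Subgroup.mem_top _
    have hπ : C.π (k : H) = C.π q := by rw [← proj9_spec e k, hkq, proj9_spec]
    obtain ⟨z, hz, hqz⟩ := C.eq_mul_of_map_eq hπ
    obtain ⟨c, hc'⟩ := R.scalar z hz
    have hkv : R.ρ (k : H) v = v :=
      congrArg Subtype.val (LinearMap.congr_fun (MonoidHom.mem_ker.1 hk) ⟨v, hvU⟩)
    have hz2 : c * c = 1 := by
      have h1 : R.ρ (z * z) v = v := by
        rw [C.mul_self_of_mem_ker hz, map_one, Module.End.one_apply]
      rw [map_mul, hc', Module.End.mul_apply, LinearMap.smul_apply, LinearMap.smul_apply,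
        Module.End.one_apply, Module.End.one_apply, smul_smul] at h1
      have : (c * c - 1) • v = 0 := by rw [sub_smul, one_smul, h1, sub_self]
      exact sub_eq_zero.1 ((smul_eq_zero.1 this).resolve_right hv0)
    have hqv : f 1 v = c • v := by
      rw [hf, bl_eq, show C.tl (e (1, 0)) (e (1, 1)) (e (1, 2)) = (k : H) * z from hqz, map_mul,
        hc', Module.End.mul_apply, LinearMap.smul_apply, Module.End.one_apply, map_smul, hkv]
    rw [hq] at hqv
    have hcz : ζ = c := by
      have : (ζ - c) • v = 0 := by rw [sub_smul, hqv, sub_self]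
      exact sub_eq_zero.1 ((smul_eq_zero.1 this).resolve_right hv0)
    have h3 : ζ ^ 3 = 1 := hζ.pow_eq_one
    exact hζ.pow_ne_one_of_pos_of_lt (by norm_num) (show 2 < 3 by norm_num) (by rw [pow_two, hcz, hz2])

/-- The common eigenspace for the root in every block. -/
noncomputable def ones (ζ : K) : Submodule K V :=
  ⨅ i : Fin 4, LinearMap.ker (blockOp R e odd3 i - ζ • 1)

theorem mem_ones {ζ : K} {v : V} : v ∈ ones R e ζ ↔ ∀ i, blockOp R e odd3 i v = ζ • v := by
  simp [ones, Submodule.mem_iInf, sub_eq_zero]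

theorem ones_invariant {ζ : K} {h : H} (σ : Perm (Fin 4))
    (hh : ∀ l t, (C.π h : Perm (Fin 12)) (e (l, t)) = e (σ l, t)) :
    ∀ v ∈ ones R e ζ, R.ρ h v ∈ ones R e ζ := by
  intro v hv
  rw [mem_ones] at hv ⊢
  intro i
  obtain ⟨l, rfl⟩ := σ.surjective i
  have h' := C.tl_conj (e_ne' e (show (0 : ZMod 3) ≠ 1 by decide)) (e_ne' e (show (0 : ZMod 3) ≠ 2 by decide))
    (e_ne' e (show (1 : ZMod 3) ≠ 2 by decide)) h
    (a := e (l, 0)) (b := e (l, 1)) (i := e (l, 2))
  rw [hh, hh, hh, mul_inv_eq_iff_eq_mul] at h'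
  rw [bl_eq, ← Module.End.mul_apply, ← map_mul, ← h', map_mul, Module.End.mul_apply, ← bl_eq, hv,
    map_smul]

theorem two_le_ones [Finite H] [FiniteDimensional K V] (hker : C.π.ker ≠ ⊥) {ζ : K}
    (hne : ones R e ζ ≠ ⊥) : 2 ≤ finrank K (ones R e ζ) := by
  set x : Fin 4 → ZMod 3 → Fin 12 := fun l t => e (l, t) with hx
  have hxne : ∀ {l l' : Fin 4} {t t' : ZMod 3}, (l, t) ≠ (l', t') → x l t ≠ x l' t' :=
    fun h => e_ne e h
  set A : ZMod 3 → H := fun t => C.tl (x 0 t) (x 2 t) (x 1 t) * C.tl (x 0 t) (x 2 t) (x 3 t)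
  set B : ZMod 3 → H := fun t => C.tl (x 0 t) (x 1 t) (x 2 t) * C.tl (x 0 t) (x 1 t) (x 3 t)
  obtain ⟨z, hzk, hz1⟩ := (Subgroup.ne_bot_iff_exists_ne_one.1 hker).imp'
    (q := fun z : H => z ∈ C.π.ker ∧ z ≠ 1) Subtype.val
    fun z hz => ⟨z.2, fun h => hz (Subtype.ext h)⟩
  have hzc : ∀ g, Commute z g := fun g => (C.ker_comm hzk g).symm
  have hz2 : z * z = 1 := C.mul_self_of_mem_ker hzk
  have hsq : ∀ {a b i j : Fin 12}, a ≠ b → a ≠ i → a ≠ j → b ≠ i → b ≠ j → i ≠ j →
      (C.tl a b i * C.tl a b j) ^ 2 = z := by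
    intro a b i j hab hai haj hbi hbj hij
    refine C.eq_of_mem_ker ?_ hzk (C.sq_ne_one (by norm_num) hker hab hai haj hbi hbj hij) hz1
    rw [MonoidHom.mem_ker, map_pow, map_mul, C.π_tl hab hai hbi, C.π_tl hab haj hbj]
    exact cyc_sq hab hai hbi haj hbj hij
  have hπA : ∀ t, C.π (A t) = cyc (x 0 t) (x 2 t) (x 1 t) * cyc (x 0 t) (x 2 t) (x 3 t) := fun t => by
    rw [map_mul, C.π_tl, C.π_tl] <;> exact hxne (by simp)
  have hπB : ∀ t, C.π (B t) = cyc (x 0 t) (x 1 t) (x 2 t) * cyc (x 0 t) (x 1 t) (x 3 t) := fun t => by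
    rw [map_mul, C.π_tl, C.π_tl] <;> exact hxne (by simp)
  have hA1 : ∀ t l t', (C.π (A t) : Perm (Fin 12)) (x l t') =
      if t' = t then x ((swap 0 1 * swap 2 3 : Perm (Fin 4)) l) t else x l t' := by
    intro t l t'
    obtain ⟨h1, h2, h3, h4, h5⟩ := double_apply (a := x 0 t) (b := x 2 t) (i := x 1 t) (j := x 3 t)
      (hxne (by simp)) (hxne (by simp)) (hxne (by simp)) (hxne (by simp)) (hxne (by simp))
      (hxne (by simp)) _ (hπA t)
    split_ifs with h
    · subst h
      fin_cases l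
      · exact h1
      · exact h2
      · exact h3
      · exact h4
    · exact h5 _ (hxne (by simp [h])) (hxne (by simp [h])) (hxne (by simp [h])) (hxne (by simp [h]))
  have hB1 : ∀ t l t', (C.π (B t) : Perm (Fin 12)) (x l t') =
      if t' = t then x ((swap 0 2 * swap 1 3 : Perm (Fin 4)) l) t else x l t' := by
    intro t l t'
    obtain ⟨h1, h2, h3, h4, h5⟩ := double_apply (a := x 0 t) (b := x 1 t) (i := x 2 t) (j := x 3 t)
      (hxne (by simp)) (hxne (by simp)) (hxne (by simp)) (hxne (by simp)) (hxne (by simp))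
      (hxne (by simp)) _ (hπB t)
    split_ifs with h
    · subst h
      fin_cases l
      · exact h1
      · exact h3
      · exact h2
      · exact h4
    · exact h5 _ (hxne (by simp [h])) (hxne (by simp [h])) (hxne (by simp [h])) (hxne (by simp [h]))
  have hanti : ∀ t, B t * A t = A t * B t * z := by
    intro t
    have ha : A t * A t = z := by
      rw [← pow_two]; exact hsq (hxne (by simp)) (hxne (by simp)) (hxne (by simp)) (hxne (by simp))
        (hxne (by simp)) (hxne (by simp))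
    have hb : B t * B t = z := by
      rw [← pow_two]; exact hsq (hxne (by simp)) (hxne (by simp)) (hxne (by simp)) (hxne (by simp))
        (hxne (by simp)) (hxne (by simp))
    set Y := C.tl (x 0 t) (x 1 t) (x 3 t) * C.tl (x 0 t) (x 1 t) (x 2 t) with hY
    have hπY : C.π Y = cyc (x 0 t) (x 1 t) (x 3 t) * cyc (x 0 t) (x 1 t) (x 2 t) := by
      rw [map_mul, C.π_tl, C.π_tl] <;> exact hxne (by simp)
    have hAB : C.π Y = C.π (A t * B t) := by
      refine Subtype.ext (Equiv.ext fun w => ?_)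
      obtain ⟨⟨l, t'⟩, rfl⟩ := e_surj e w
      show (C.π Y : Perm (Fin 12)) (x l t') = (C.π (A t * B t) : Perm (Fin 12)) (x l t')
      obtain ⟨h1, h2, h3, h4, h5⟩ := double_apply (a := x 0 t) (b := x 1 t) (i := x 3 t) (j := x 2 t)
        (hxne (by simp)) (hxne (by simp)) (hxne (by simp)) (hxne (by simp)) (hxne (by simp))
        (hxne (by simp)) _ hπY
      rw [map_mul C.π (A t), Subgroup.coe_mul (alternatingGroup (Fin 12)) (C.π (A t)), Perm.mul_apply,
        hB1]
      split_ifs with h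
      · subst h
        rw [hA1, if_pos rfl]
        fin_cases l
        · exact h1
        · exact h3
        · exact h4
        · exact h2
      · rw [hA1, if_neg h]
        exact h5 _ (hxne (by simp [h])) (hxne (by simp [h])) (hxne (by simp [h])) (hxne (by simp [h]))
    obtain ⟨k, hk, hk'⟩ := C.eq_mul_of_map_eq hAB
    have hab : A t * B t * (A t * B t) = z := by
      rw [hk', ← pow_two, (show Commute Y k from C.ker_comm hk Y).mul_pow, pow_two k,
        C.mul_self_of_mem_ker hk, mul_one]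
      exact hsq (hxne (by simp)) (hxne (by simp)) (hxne (by simp)) (hxne (by simp))
        (hxne (by simp)) (hxne (by simp))
    have hai : (A t)⁻¹ = A t * z := inv_eq_of_mul_eq_one_right (by rw [← mul_assoc, ha, hz2])
    have hbi : (B t)⁻¹ = B t * z := inv_eq_of_mul_eq_one_right (by rw [← mul_assoc, hb, hz2])
    calc B t * A t = (A t)⁻¹ * (A t * B t * (A t * B t)) * (B t)⁻¹ := by group
      _ = A t * z * z * (B t * z) := by rw [hab, hai, hbi]
      _ = A t * B t * z := by
        rw [mul_assoc (A t) z z, hz2, mul_one]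
        exact (mul_assoc _ _ _).symm
  have hcomm : ∀ {t t' : ZMod 3}, t ≠ t' → Commute (B t) (A t') := by
    intro t t' htt
    have key : ∀ {i j k i' j' k' : Fin 4}, i ≠ j → i ≠ k → j ≠ k → i' ≠ j' → i' ≠ k' → j' ≠ k' →
        Commute (C.tl (x i t) (x j t) (x k t)) (C.tl (x i' t') (x j' t') (x k' t')) := by
      intro i j k i' j' k' h1 h2 h3 h4 h5 h6
      refine C.lift_commute (Cover.odd_orderOf_cyc (hxne (by simp [h4])) (hxne (by simp [h5]))
        (hxne (by simp [h6]))) ?_
      rw [C.π_tl (hxne (by simp [h1])) (hxne (by simp [h2])) (hxne (by simp [h3]))]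
      refine cyc_comm (hxne (by simp [h4])) (hxne (by simp [h5])) (hxne (by simp [h1]))
        (hxne (by simp [h2])) ?_
      rintro w (rfl | rfl | rfl) <;>
        exact ⟨hxne (by simp [htt.symm]), hxne (by simp [htt.symm]), hxne (by simp [htt.symm])⟩
    exact ((key (by decide) (by decide) (by decide) (by decide) (by decide) (by decide)).mul_left
      (key (by decide) (by decide) (by decide) (by decide) (by decide) (by decide))).mul_right
      ((key (by decide) (by decide) (by decide) (by decide) (by decide) (by decide)).mul_left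
      (key (by decide) (by decide) (by decide) (by decide) (by decide) (by decide)))
  set a := A 0 * A 1 * A 2
  set b := B 0 * B 1 * B 2
  have hba : b * a = a * b * z := mul_three_flip hzc hz2 (hanti 0) (hanti 1) (hanti 2)
    (hcomm (by decide)) (hcomm (by decide)) (hcomm (by decide)) (hcomm (by decide))
    (hcomm (by decide)) (hcomm (by decide))
  have hact : ∀ (F : ZMod 3 → H) (σ : Perm (Fin 4)),
      (∀ t l t', (C.π (F t) : Perm (Fin 12)) (x l t') = if t' = t then x (σ l) t else x l t') →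
      ∀ l t, (C.π (F 0 * F 1 * F 2) : Perm (Fin 12)) (e (l, t)) = e (σ l, t) := by
    intro F σ hF l t
    show (C.π (F 0 * F 1 * F 2) : Perm (Fin 12)) (x l t) = x (σ l) t
    simp only [map_mul, Subgroup.coe_mul, Perm.mul_apply, hF]
    rcases (show ∀ t : ZMod 3, t = 0 ∨ t = 1 ∨ t = 2 by decide) t with rfl | rfl | rfl <;>
      simp +decide [hF]
  have ia := ones_invariant R e (ζ := ζ) (h := a) _ (hact A _ hA1)
  have ib := ones_invariant R e (ζ := ζ) (h := b) _ (hact B _ hB1)
  by_contra hlt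
  obtain ⟨v, hv, hv0⟩ := (Submodule.ne_bot_iff _).1 hne
  obtain ⟨w, hw⟩ := finrank_le_one_iff.1 (show finrank K (ones R e ζ) ≤ 1 by omega)
  have hline : ∀ u ∈ ones R e ζ, ∃ c : K, u = c • v := by
    intro u hu
    obtain ⟨c1, hc1⟩ := hw ⟨v, hv⟩
    obtain ⟨c2, hc2⟩ := hw ⟨u, hu⟩
    have hc1' : c1 • (w : V) = v := congrArg Subtype.val hc1
    have hc2' : c2 • (w : V) = u := congrArg Subtype.val hc2
    have hc10 : c1 ≠ 0 := fun h => hv0 (by rw [← hc1', h, zero_smul])
    exact ⟨c2 / c1, by rw [← hc1', ← hc2', smul_smul, div_mul_cancel₀ c2 hc10]⟩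
  obtain ⟨ca, hca⟩ := hline _ (ia v hv)
  obtain ⟨cb, hcb⟩ := hline _ (ib v hv)
  refine hz1 (R.eq_one_of_fix hzk (v := R.ρ (a * b) v) ?_ ?_)
  · refine fun h => hv0 ?_
    have h' := congrArg (R.ρ (a * b)⁻¹) h
    rwa [← Module.End.mul_apply, ← map_mul, inv_mul_cancel, map_one, Module.End.one_apply,
      map_zero] at h'
  · have h1 : R.ρ (b * a) v = R.ρ (a * b) v := by
      rw [map_mul R.ρ b a, map_mul R.ρ a b, Module.End.mul_apply, Module.End.mul_apply, hca, map_smul, hcb,
        map_smul, hca, smul_smul, smul_smul, mul_comm]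
    rw [hba, ← (hzc (a * b)).eq, map_mul, Module.End.mul_apply] at h1
    exact h1

end

end CfsgLib.AltE6
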