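import Cfsg.Agent.AltE6.Monomial

/-!
The moved space of a long cycle in a representation of degree at most twenty-seven of a group with the
alternating group of degree twelve as a quotient.
-/

set_option autoImplicit false

namespace CfsgLib.AltE6

open Equiv Equiv.Perm Module CfsgLib.BPres CfsgLib.AltSection
open scoped commutatorElement

variable {H : Type} [Group H] [Finite H] {π : H →* alternatingGroup (Fin 12)}

theorem normal_dichotomy (hπ : Function.Surjective π) (hL : ∀ L : Subgroup H, L.map π = ⊤ → L = ⊤)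
    (M : Subgroup H) (hM : M.Normal) : M ≤ π.ker ∨ M = ⊤ := by
  haveI : IsSimpleGroup (alternatingGroup (Fin 12)) :=
    alternatingGroup.isSimpleGroup (by rw [Nat.card_eq_fintype_card, Fintype.card_fin]; omega)
  rcases (hM.map π hπ).eq_bot_or_eq_top with h | h
  · exact Or.inl ((Subgroup.map_eq_bot_iff _).1 h)
  · exact Or.inr (hL M h)

/-- The bound for all representations. -/
theorem rep_bound (hπ : Function.Surjective π) (hL : ∀ L : Subgroup H, L.map π = ⊤ → L = ⊤)
    {p : ℕ} [Fact p.Prime] {K : Type} [Field K] [IsAlgClosed K] [CharP K p] (hp2 : p ≠ 2)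
    (hp3 : p ≠ 3) {ℓ : ℕ} {σ : alternatingGroup (Fin 12)} (hc : Case ℓ σ) (hℓK : (ℓ : K) ≠ 0)
    {x : H} (hx : π x = σ) (hxℓ : x ^ ℓ = 1)
    (hnx : ∀ g, g * σ = σ ^ 3 * g → ∃ h, π h = g ∧ h * x = x ^ 3 * h) :
    ∀ (N : ℕ) (V : Type) [AddCommGroup V] [Module K V] [FiniteDimensional K V]
      (ρ : H →* Module.End K V), finrank K V = N → N ≤ 27 → ρ.ker ≤ π.ker →
      ∃ M, 1 ≤ M ∧ 10 * M ≤ N ∧ finrank K (LinearMap.range (ρ x - 1)) ≤ (ℓ - 1) * M := by
  classical
  haveI := Fact.mk hc.prime
  have hN := normal_dichotomy hπ hL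
  intro N
  induction N using Nat.strong_induction_on with
  | _ n IH =>
  intro V _ _ _ ρ hn h27 hker
  haveI : IsSimpleGroup (alternatingGroup (Fin 12)) :=
    alternatingGroup.isSimpleGroup (by rw [Nat.card_eq_fintype_card, Fintype.card_fin]; omega)
  have hperf : commutator H = ⊤ := by
    refine (hN _ inferInstance).resolve_left fun h => not_all_commute (r := 12) (by omega) fun x y => ?_
    obtain ⟨a, rfl⟩ := hπ x
    obtain ⟨b, rfl⟩ := hπ y
    have hmem : ⁅a, b⁆ ∈ π.ker := h (Subgroup.commutator_mem_commutator (Subgroup.mem_top a)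
      (Subgroup.mem_top b))
    rw [MonoidHom.mem_ker, map_commutatorElement, commutatorElement_eq_one_iff_mul_comm] at hmem
    exact hmem
  haveI : Nontrivial V := by
    by_contra hnt
    rw [not_nontrivial_iff_subsingleton] at hnt
    have hall : ∀ h : H, π h = 1 := fun h => hker (LinearMap.ext fun v => Subsingleton.elim _ _)
    exact not_all_commute (r := 12) (by omega) fun x y => by
      obtain ⟨a, rfl⟩ := hπ x
      obtain ⟨b, rfl⟩ := hπ y
      rw [hall, hall]
  by_cases hW : ∃ W : Submodule K V, (∀ h, ∀ v ∈ W, ρ h v ∈ W) ∧ W ≠ ⊥ ∧ W ≠ ⊤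
  · obtain ⟨W, hW, hWb, hWt⟩ := hW
    let ρW : H →* Module.End K W :=
      { toFun := fun h => (ρ h).restrict (hW h)
        map_one' := LinearMap.ext fun v => Subtype.ext (by simp)
        map_mul' := fun g h => LinearMap.ext fun v => Subtype.ext (by simp) }
    let ρQ : H →* Module.End K (V ⧸ W) :=
      { toFun := fun h => W.mapQ W (ρ h) fun v hv => hW h v hv
        map_one' := Submodule.linearMap_qext _ (LinearMap.ext fun v => by simp)
        map_mul' := fun g h => Submodule.linearMap_qext _ (LinearMap.ext fun v => by simp) }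
    have hsum := W.finrank_quotient_add_finrank
    have hlt1 : finrank K W < n := hn ▸ Submodule.finrank_lt hWt
    have hlt2 : finrank K (V ⧸ W) < n := by
      have h2 : 0 < finrank K W := Nat.pos_of_ne_zero (mt Submodule.finrank_eq_zero.1 hWb)
      omega
    have hrank : finrank K (LinearMap.range (ρ x - 1)) ≤
        finrank K (LinearMap.range (ρW x - 1)) + finrank K (LinearMap.range (ρQ x - 1)) :=
      rank_le_sub_quot hℓK (by rw [← map_pow, hxℓ, map_one]) (hW x)
    have htriv : ∀ {U : Type} [AddCommGroup U] [Module K U] (r : H →* Module.End K U),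
        r.ker = ⊤ → finrank K (LinearMap.range (r x - 1)) = 0 := by
      intro U _ _ r hr
      rw [show r x = 1 from (hr ▸ Subgroup.mem_top x : x ∈ r.ker), sub_self, LinearMap.range_zero,
        finrank_bot]
    rcases hN ρW.ker inferInstance with h1 | h1 <;> rcases hN ρQ.ker inferInstance with h2 | h2
    · obtain ⟨M1, a1, b1, c1⟩ := IH _ hlt1 W ρW rfl (by omega) h1
      obtain ⟨M2, a2, b2, c2⟩ := IH _ hlt2 (V ⧸ W) ρQ rfl (by omega) h2
      exact ⟨M1 + M2, by omega, by omega, by rw [Nat.mul_add]; omega⟩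
    · obtain ⟨M1, a1, b1, c1⟩ := IH _ hlt1 W ρW rfl (by omega) h1
      have := htriv ρQ h2
      exact ⟨M1, a1, by omega, by omega⟩
    · obtain ⟨M2, a2, b2, c2⟩ := IH _ hlt2 (V ⧸ W) ρQ rfl (by omega) h2
      have := htriv ρW h1
      exact ⟨M2, a2, by omega, by omega⟩
    exfalso
    have hfix : ∀ h, ∀ v ∈ W, ρ h v = v := fun h v hv => congrArg Subtype.val
      (LinearMap.congr_fun (show ρW h = 1 from (h1 ▸ Subgroup.mem_top h : h ∈ ρW.ker)) ⟨v, hv⟩)
    have hquot : ∀ h v, ρ h v - v ∈ W := fun h v => (Submodule.Quotient.eq W).1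
      (LinearMap.congr_fun (show ρQ h = 1 from (h2 ▸ Subgroup.mem_top h : h ∈ ρQ.ker))
        (Submodule.Quotient.mk v))
    have hadd : ∀ g h v, ρ g (ρ h v) = ρ g v + ρ h v - v := fun g h v => by
      have := hfix g _ (hquot h v)
      rw [map_sub, sub_eq_iff_eq_add] at this
      rw [this]; abel
    have hcomm : commutator H ≤ ρ.ker := by
      rw [commutator_def, Subgroup.commutator_le]
      intro g _ h _
      have he : ρ (g * h) = ρ (h * g) := LinearMap.ext fun v => by
        rw [map_mul, map_mul, Module.End.mul_apply, Module.End.mul_apply, hadd, hadd]; abel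
      rw [MonoidHom.mem_ker, commutatorElement_def,
        show g * h * g⁻¹ * h⁻¹ = g * h * (h * g)⁻¹ by group, map_mul, he, ← map_mul, mul_inv_cancel,
        map_one]
    rw [hperf] at hcomm
    exact not_all_commute (r := 12) (by omega) fun x y => by
      obtain ⟨a, rfl⟩ := hπ x
      obtain ⟨b, rfl⟩ := hπ y
      rw [show π a = 1 from hker (hcomm (Subgroup.mem_top a)), one_mul, mul_one]
  push Not at hW
  have hirr : ∀ W : Submodule K V, (∀ h, ∀ v ∈ W, ρ h v ∈ W) → W = ⊥ ∨ W = ⊤ := fun W h =>
    (eq_or_ne W ⊥).imp_right (hW W h)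
  by_cases hsc : π.ker ≤ scalars ρ
  swap
  · suffices hs : ∃ s : ℕ, s.Prime ∧ ∃ Q : Subgroup H, Q.Normal ∧ IsPGroup s Q ∧
        ¬ Q ≤ scalars ρ by
      obtain ⟨s, hs, Q, hQn, hQp, hQs⟩ := hs
      haveI := Fact.mk hs
      haveI := hQn
      obtain ⟨A, hAn, hA, hAs⟩ := exists_abelian hπ hN hperf hn h27 ρ hirr Q hQp hQs
      haveI := hAn
      obtain ⟨M, a, b, c⟩ :=
        monomial12 hπ hL (by omega) ρ hirr hc hℓK hx hxℓ hnx A hA hAs
      exact ⟨M, a, by omega, c⟩
    by_contra hall
    push Not at hall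
    refine hsc ?_
    set N₀ : Subgroup π.ker := (scalars ρ).subgroupOf π.ker
    have hidx : N₀.index = 1 := by
      by_contra hne
      obtain ⟨s, hs, hdvd⟩ := Nat.exists_prime_and_dvd hne
      haveI := Fact.mk hs
      let P : Sylow s π.ker := default
      haveI hnormal : ((P : Subgroup π.ker).map π.ker.subtype).Normal := by
        rw [← Subgroup.normalizer_eq_top_iff]
        refine hL _ ?_
        have h := congrArg (Subgroup.map π) (Sylow.normalizer_sup_eq_top P)
        rw [Subgroup.map_sup, (Subgroup.map_eq_bot_iff _).2 le_rfl, sup_bot_eq,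
          Subgroup.map_top_of_surjective π hπ] at h
        exact h
      have hle := hall s hs _ hnormal (P.2.map _)
      have hPN : (P : Subgroup π.ker) ≤ N₀ := fun x hx => hle ⟨x, hx, rfl⟩
      exact P.not_dvd_index (hdvd.trans (Subgroup.index_dvd_of_le hPN))
    exact Subgroup.subgroupOf_eq_top.1 (Subgroup.index_eq_one.1 hidx)
  -- the spin representation
  let G := H ⧸ ρ.ker
  let π' : G →* alternatingGroup (Fin 12) := QuotientGroup.lift ρ.ker π hker
  let ρ' : G →* Module.End K V := QuotientGroup.lift ρ.ker ρ le_rfl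
  have hfaith : ∀ g : G, ρ' g = 1 → g = 1 := fun g hg => by
    induction g using QuotientGroup.induction_on with
    | H x => exact (QuotientGroup.eq_one_iff x).2 hg
  have hsurj : Function.Surjective π' := fun x => by
    obtain ⟨a, rfl⟩ := hπ x
    exact ⟨(a : G), rfl⟩
  have hscal : ∀ z ∈ π'.ker, ∃ c : K, ρ' z = c • 1 := fun z hz => by
    induction z using QuotientGroup.induction_on with
    | H x => exact hsc hz
  have hperfG : commutator G = ⊤ := by
    rw [eq_top_iff]
    intro g _
    induction g using QuotientGroup.induction_on with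
    | H x =>
      have h1 : (x : G) ∈ (commutator H).map (QuotientGroup.mk' ρ.ker) :=
        ⟨x, hperf ▸ Subgroup.mem_top x, rfl⟩
      rw [commutator_def, Subgroup.map_commutator] at h1
      exact Subgroup.commutator_mono le_top le_top h1
  have hcent : π'.ker ≤ Subgroup.center G := fun z hz => Subgroup.mem_center_iff.2 fun g => by
    obtain ⟨c, hc⟩ := hscal z hz
    refine mul_inv_eq_one.1 (hfaith _ ?_)
    have e : ρ' (g * z) = ρ' (z * g) := by
      rw [map_mul, map_mul, hc, mul_smul_comm, smul_mul_assoc, one_mul, mul_one]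
    rw [map_mul, e, ← map_mul, mul_inv_cancel, map_one]
  have hsmall : Nat.card π'.ker ≤ 2 := by
    exact CfsgLib.CoxRot.card_ker_le_two_alt (m := 11) (by omega) (by omega) (by omega) hcent
      (hperfG ▸ le_top) hsurj
  let C : Cover 12 G := ⟨π', hsurj, hperfG, inferInstance, hsmall⟩
  let R : Rep C K V := ⟨ρ', hfaith, hscal, fun W h => hirr W fun a v hv => h (a : G) v hv⟩
  obtain ⟨M, a, b, c⟩ := core12 R hp2 hp3 (hn ▸ h27) hc (x := (x : G)) hx
  exact ⟨M, a, hn ▸ b, c⟩

end CfsgLib.AltE6
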